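import Cfsg.Agent.Lib.ConwayWeak.Maps

/-!
Alternating maps, and the normal forms of involutions with totally singular displacements.
-/

set_option autoImplicit false
set_option maxRecDepth 20000
set_option synthInstance.maxSize 4096
set_option synthInstance.maxHeartbeats 400000
set_option maxHeartbeats 1000000

namespace CfsgLib.ConwayWeak

open QuadraticMap Module CfsgLib.ConwayType CfsgLib.WittExtension CfsgLib.SpinorNorm

/-! ### Alternating maps -/

/-- The upper entries of the map from the complement to the range. -/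
def pdat (g : O8) : Fin 6 → F2 :=
  ![xa (dsp g (vec 0 ![0, 1, 0, 0])) 0, xa (dsp g (vec 0 ![0, 0, 1, 0])) 0, xa (dsp g (vec 0 ![0, 0, 0, 1])) 0,
    xa (dsp g (vec 0 ![0, 0, 1, 0])) 1, xa (dsp g (vec 0 ![0, 0, 0, 1])) 1, xa (dsp g (vec 0 ![0, 0, 0, 1])) 2]

/-- The Pfaffian. -/
def pf (s : Fin 6 → F2) : F2 := s 0 * s 5 + s 1 * s 4 + s 2 * s 3

theorem pf_seven : ∀ a b c : Fin 6 → F2, pf a + pf b + pf c + pf (a + b) + pf (a + c) + pf (b + c) + pf (a + b + c) = 0 := by
  intro a b c
  simp only [pf, Pi.add_apply]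
  ring_nf
  simp [(show (2 : F2) = 0 from rfl), (show (4 : F2) = 0 from rfl)]

/-- The alternating matrix applied to a vector. -/
def amat (s : Fin 6 → F2) (x : Fin 4 → F2) : Fin 4 → F2 :=
  ![x 1 * s 0 + x 2 * s 1 + x 3 * s 2, x 0 * s 0 + x 2 * s 3 + x 3 * s 4, x 0 * s 1 + x 1 * s 3 + x 3 * s 5,
    x 0 * s 2 + x 1 * s 4 + x 2 * s 5]

theorem pf_zero : ∀ s : Fin 6 → F2, pf s = 0 → ∃ x : Fin 4 → F2, x ≠ 0 ∧ amat s x = 0 := by
  decide +kernel

theorem amat_eq_zero : ∀ s : Fin 6 → F2, (∀ x, amat s x = 0) → s = 0 := by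
  decide +kernel

/-- A map fixing the range of `J4 + 1` pointwise displaces into it, by an alternating matrix. -/
theorem dsp_alt {g : O8} (h : ∀ v, InR4 v → g.1 v = v) :
    (∀ v, InR4 (dsp g v)) ∧ ∀ v, dsp g v = vec (amat (pdat g) fun i => xb v i) 0 := by
  have hR : ∀ v, InR4 (dsp g v) := fun v => perp_J4 _ fun w hw => by
    have hw' := h w ((ker_J4 w).mp hw)
    rw [bf_comm, dsp_apply, bf_add_left]
    conv_lhs => arg 1; rw [← hw', bf_map]
    exact F2_add_self _
  refine ⟨hR, fun v => ?_⟩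
  set f : Fin 4 → V := ![vec 0 ![1, 0, 0, 0], vec 0 ![0, 1, 0, 0], vec 0 ![0, 0, 1, 0], vec 0 ![0, 0, 0, 1]]
    with hf
  have hval : ∀ u x : V, InR4 x → ∀ i, bf (f i) x = xa x i ∧ (InR4 u → bf u x = 0) := by decide +kernel
  have hanti : ∀ i j, xa (dsp g (f j)) i = xa (dsp g (f i)) j := fun i j => by
    have e := bf_map g (f i) (f j)
    rw [map_eq_add_dsp g (f i), map_eq_add_dsp g (f j), bf_add_left, bf_add_right, bf_add_right] at e
    have b1 : bf (f i) (dsp g (f j)) = xa (dsp g (f j)) i := (hval 0 _ (hR (f j)) i).1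
    have b2 : bf (dsp g (f i)) (f j) = xa (dsp g (f i)) j := by rw [bf_comm]; exact (hval 0 _ (hR (f i)) j).1
    have b3 : bf (dsp g (f i)) (dsp g (f j)) = 0 := (hval _ _ (hR (f j)) i).2 (hR (f i))
    rw [b1, b2, b3, add_zero, add_assoc, add_eq_left] at e
    exact (show ∀ p r : F2, p + r = 0 → p = r by decide) _ _ e
  have hdiag : ∀ i, xa (dsp g (f i)) i = 0 := fun i => by
    have e := g.2 (f i)
    have b1 : bf (f i) (dsp g (f i)) = xa (dsp g (f i)) i := (hval 0 _ (hR (f i)) i).1
    rw [map_eq_add_dsp g (f i), qf_add, (R4_iso _ _ (hR (f i)) (hR (f i))).1, b1, add_zero, add_eq_left] at e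
    exact e
  have hd : ∀ v : V, InR4 (xb v 0 • f 0 + xb v 1 • f 1 + xb v 2 • f 2 + xb v 3 • f 3 + v) := by decide +kernel
  obtain ⟨w, hw, hwR⟩ : ∃ w, v = xb v 0 • f 0 + xb v 1 • f 1 + xb v 2 • f 2 + xb v 3 • f 3 + w ∧ InR4 w :=
    ⟨xb v 0 • f 0 + xb v 1 • f 1 + xb v 2 • f 2 + xb v 3 • f 3 + v, by rw [← add_assoc, V_add_self, zero_add], hd v⟩
  have h0 : dsp g w = 0 := by rw [dsp_apply, h w hwR, V_add_self]
  have hp : pdat g = ![xa (dsp g (f 1)) 0, xa (dsp g (f 2)) 0, xa (dsp g (f 3)) 0, xa (dsp g (f 2)) 1,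
      xa (dsp g (f 3)) 1, xa (dsp g (f 3)) 2] := rfl
  conv_lhs => rw [hw]
  simp only [map_add, map_smul, h0, add_zero]
  funext k
  rcases k with k | k
  · simp only [Pi.add_apply, Pi.smul_apply, smul_eq_mul]
    show xb v 0 * xa (dsp g (f 0)) k + xb v 1 * xa (dsp g (f 1)) k + xb v 2 * xa (dsp g (f 2)) k +
      xb v 3 * xa (dsp g (f 3)) k = amat (pdat g) (fun i => xb v i) k
    fin_cases k <;>
      simp only [Fin.isValue, Fin.zero_eta, Fin.mk_one, Fin.reduceFinMk] <;>
      rw [hdiag] <;>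
      simp [amat, hp, hanti 1 0, hanti 2 0, hanti 3 0, hanti 2 1, hanti 3 1, hanti 3 2]
  · simp only [Pi.add_apply, Pi.smul_apply, smul_eq_mul]
    have := fun i => hR (f i) k
    simp only [xb] at this
    simp [this, vec]

/-! ### Normal forms -/

theorem dsp_conj (σ T : O8) (v : V) : dsp (σ * T * σ⁻¹) v = σ.1 (dsp T (σ⁻¹.1 v)) := by
  rw [dsp_apply, dsp_apply, map_add]
  congr 1
  exact (σ.1.apply_symm_apply v).symm

theorem dsp_inj {S T : O8} (h : dsp S = dsp T) : S = T :=
  ext_iso fun v => by rw [map_eq_add_dsp, map_eq_add_dsp T, h]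

/-- An involution with totally singular displacements has one of two shapes. -/
theorem singular_std {T : O8} (h2 : T * T = 1) (h1 : T ≠ 1) (hq : ∀ v, qf (dsp T v) = 0) :
    ∃ σ : O8, σ * T * σ⁻¹ = J2 ∨ σ * T * σ⁻¹ = J4 := by
  obtain ⟨v1, hv1⟩ : ∃ v, dsp T v ≠ 0 := by
    by_contra hall
    push Not at hall
    exact h1 (ext_iso fun v => by show T.1 v = v; rw [map_eq_add_dsp, hall v, add_zero])
  set a := dsp T v1 with ha
  obtain ⟨v2, -, h21⟩ := exists_perp_one (p := 0) hv1 hv1
  set b := dsp T v2 with hb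
  have hsym : ∀ x y, bf x (dsp T y) = bf y (dsp T x) := fun x y => by rw [← dsp_adj h2, bf_comm]
  have hdiag : ∀ x, bf x (dsp T x) = 0 := fun x => by rw [← qf_dsp h2]; exact hq x
  have h12 : bf v1 b = 1 := by rw [hb, hsym]; exact h21
  have back : ∀ {σ : O8} {T' : O8}, (∀ v, σ.1 (dsp T v) = dsp T' (σ.1 v)) → σ * T * σ⁻¹ = T' :=
    fun {σ T'} h => dsp_inj (LinearMap.ext fun v => by
      rw [dsp_conj, h]; exact congrArg _ (σ.1.apply_symm_apply v))
  have hxb : ∀ w : V, bf w e0 = xb w 0 ∧ bf w e1 = xb w 1 ∧ bf w e2 = xb w 2 ∧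
      bf w (vec ![0, 0, 0, 1] 0) = xb w 3 := by decide +kernel
  by_cases hrk : ∀ v, dsp T v + bf v a • b + bf v b • a = 0
  · have hform : ∀ v, dsp T v = bf v a • b + bf v b • a := fun v => by
      conv_rhs => rw [← zero_add (bf v a • b + bf v b • a), ← V_add_self (dsp T v)]
      rw [add_assoc (dsp T v) (dsp T v), ← add_assoc (dsp T v) (bf v a • b), hrk v, add_zero]
    obtain ⟨σ, hσ⟩ := move ![a, b] ![e0, e1] (fun c hc => by
        rw [Fintype.linearCombination_apply, Fin.sum_univ_two] at hc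
        simp only [Matrix.cons_val_zero, Matrix.cons_val_one] at hc
        have e1' := congrArg (bf v2) hc
        have e2' := congrArg (bf v1) hc
        simp only [bf_add_right, bf_smul_right, bf_zero_right, h21, h12, show bf v1 a = 0 from hdiag v1,
          show bf v2 b = 0 from hdiag v2] at e1' e2'
        simp only [mul_one, mul_zero, add_zero, zero_add] at e1' e2'
        funext i; fin_cases i <;> assumption)
      (by decide +kernel) fun c => by
      simp only [Fintype.linearCombination_apply, Fin.sum_univ_two, Matrix.cons_val_zero, Matrix.cons_val_one,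
        qf_add, qf_smul, bf_smul_left, bf_smul_right, ha, hb, hq, dsp_perp h2, std_q.1, std_q.2.1, std_bf.1]
    refine ⟨σ, Or.inl (back fun v => ?_)⟩
    have s0 : σ.1 a = e0 := hσ 0
    have s1 : σ.1 b = e1 := hσ 1
    rw [hform v, map_add, map_smul, map_smul, s0, s1, ← bf_map σ v a, ← bf_map σ v b, s0, s1, (hxb _).1,
      (hxb _).2.1]
    generalize σ.1 v = w
    revert w; decide +kernel
  · push Not at hrk
    obtain ⟨v, hv⟩ := hrk
    have adj : ∀ u : V, bf (u + bf u a • v2 + bf u b • v1) a = 0 ∧ bf (u + bf u a • v2 + bf u b • v1) b = 0 :=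
      fun u => by
      constructor
      · rw [bf_add_left, bf_add_left, bf_smul_left, bf_smul_left, ha, h21, hdiag, mul_one, mul_zero, add_zero,
          F2_add_self]
      · rw [bf_add_left, bf_add_left, bf_smul_left, bf_smul_left, h12, hb, hdiag, mul_one, mul_zero, add_zero,
          F2_add_self]
    set v3 := v + bf v a • v2 + bf v b • v1 with hv3
    set c := dsp T v3 with hc
    have hc0 : c ≠ 0 := by rw [hc, hv3, map_add, map_add, map_smul, map_smul]; exact hv
    obtain ⟨u, -, hu⟩ := exists_perp_one (p := 0) hc0 hc0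
    set v4 := u + bf u a • v2 + bf u b • v1 with hv4
    set d := dsp T v4 with hd
    have h31 : bf v3 a = 0 := (adj v).1
    have h32 : bf v3 b = 0 := (adj v).2
    have h41 : bf v4 a = 0 := (adj u).1
    have h42 : bf v4 b = 0 := (adj u).2
    have h13 : bf v1 c = 0 := by rw [hc, hsym]; exact h31
    have h23 : bf v2 c = 0 := by rw [hc, hsym]; exact h32
    have h14 : bf v1 d = 0 := by rw [hd, hsym]; exact h41
    have h24 : bf v2 d = 0 := by rw [hd, hsym]; exact h42
    have h43 : bf v4 c = 1 := by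
      rw [hv4, bf_add_left, bf_add_left, bf_smul_left, bf_smul_left, h23, h13, hu]; simp
    have h34 : bf v3 d = 1 := by rw [hd, hsym]; exact h43
    have h11 : bf v1 a = 0 := hdiag v1
    have h22 : bf v2 b = 0 := hdiag v2
    have h33 : bf v3 c = 0 := hdiag v3
    have h44 : bf v4 d = 0 := hdiag v4
    have hindep : ∀ r : Fin 4 → F2, Fintype.linearCombination F2 ![a, b, c, d] r = 0 → r = 0 := fun r hr => by
      rw [Fintype.linearCombination_apply, Fin.sum_univ_four] at hr
      simp only [Matrix.cons_val_zero, Matrix.cons_val_one, Matrix.cons_val_two, Matrix.cons_val_three,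
        Matrix.tail_cons, Matrix.head_cons] at hr
      have q1 := congrArg (bf v1) hr
      have q2 := congrArg (bf v2) hr
      have q3 := congrArg (bf v3) hr
      have q4 := congrArg (bf v4) hr
      simp only [bf_add_right, bf_smul_right, bf_zero_right, h11, h12, h13, h14, h21, h22, h23, h24, h31, h32, h33,
        h34, h41, h42, h43, h44, mul_one, mul_zero, add_zero, zero_add] at q1 q2 q3 q4
      funext i; fin_cases i <;> assumption
    have hspan : LinearMap.range (dsp T) = Submodule.span F2 (Set.range ![a, b, c, d]) := by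
      refine (Submodule.eq_of_le_of_finrank_le (Submodule.span_le.mpr ?_) ?_).symm
      · rintro _ ⟨i, rfl⟩
        fin_cases i <;> exact ⟨_, rfl⟩
      · have hli : LinearIndependent F2 ![a, b, c, d] :=
          Fintype.linearIndependent_iff.mpr fun r hr => congrFun (hindep r hr)
        rw [finrank_span_eq_card hli, Fintype.card_fin]
        exact dsp_rank_le h2
    obtain ⟨σ, hσ⟩ := move ![a, b, c, d] ![e0, e1, e2, vec ![0, 0, 0, 1] 0] hindep (by decide +kernel) fun r => by
      have hz : ∀ r : Fin 4 → F2,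
          qf (Fintype.linearCombination F2 ![e0, e1, e2, vec ![0, 0, 0, 1] 0] r) = 0 := by decide +kernel
      rw [hz r]
      have hm : Fintype.linearCombination F2 ![a, b, c, d] r ∈ LinearMap.range (dsp T) := by
        rw [hspan, ← Fintype.range_linearCombination]; exact ⟨r, rfl⟩
      obtain ⟨w, hw⟩ := hm
      rw [← hw, hq]
    refine ⟨σ, Or.inr (back fun x => ?_)⟩
    have hm : dsp T x ∈ Submodule.span F2 (Set.range ![a, b, c, d]) := hspan ▸ LinearMap.mem_range_self _ x
    obtain ⟨r, hr⟩ := Submodule.mem_span_range_iff_exists_fun F2 |>.mp hm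
    rw [Fin.sum_univ_four] at hr
    simp only [Matrix.cons_val_zero, Matrix.cons_val_one, Matrix.cons_val_two, Matrix.cons_val_three,
      Matrix.tail_cons, Matrix.head_cons] at hr
    have q1 := congrArg (bf v1) hr
    have q2 := congrArg (bf v2) hr
    have q3 := congrArg (bf v3) hr
    have q4 := congrArg (bf v4) hr
    rw [hsym v1 x, ← ha] at q1
    rw [hsym v2 x, ← hb] at q2
    rw [hsym v3 x, ← hc] at q3
    rw [hsym v4 x, ← hd] at q4
    simp only [bf_add_right, bf_smul_right, h11, h12, h13, h14, h21, h22, h23, h24, h31, h32, h33, h34, h41, h42,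
      h43, h44, mul_one, mul_zero, add_zero, zero_add] at q1 q2 q3 q4
    have s0 : σ.1 a = e0 := hσ 0
    have s1 : σ.1 b = e1 := hσ 1
    have s2 : σ.1 c = e2 := hσ 2
    have s3 : σ.1 d = vec ![0, 0, 0, 1] 0 := hσ 3
    rw [← hr, map_add, map_add, map_add, map_smul, map_smul, map_smul, map_smul, q1, q2, q3, q4, ← bf_map σ x a,
      ← bf_map σ x b, ← bf_map σ x c, ← bf_map σ x d, s0, s1, s2, s3, (hxb _).1, (hxb _).2.1, (hxb _).2.2.1,
      (hxb _).2.2.2]
    generalize σ.1 x = w
    revert w; decide +kernel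

end CfsgLib.ConwayWeak
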