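import Cfsg.Agent.Lib.ConwayWeak.Coords
import Cfsg.Agent.Lib.ConwayWeak.Normal

/-!
An involution weakly closed in the extraspecial 2-core of its centraliser: a commuting conjugate.
-/

set_option autoImplicit false
set_option linter.unusedSectionVars false

namespace CfsgLib.ConwayWeak

open QuadraticMap Module CfsgLargeExtra CfsgLib.ConwayType
open CfsgLib.HallJankoType (mem_cent conj_fix_iff)

variable {G : Type*} [Group G] [Finite G] {t : G} {Q : Subgroup G} {π : G → V} {M : G → O8}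

theorem conj_sq' (q : G) {y : G} (hy : y * y = 1) : q * y * q⁻¹ * (q * y * q⁻¹) = 1 := by
  rw [show q * y * q⁻¹ * (q * y * q⁻¹) = q * (y * y) * q⁻¹ by group, hy]; group

section

variable (h : WT t Q π M)
include h

namespace WT

theorem zz : t * t = 1 := h.es.zz

theorem nor_mem {c q : G} (hc : c * t = t * c) (hq : q ∈ Q) : c * q * c⁻¹ ∈ Q := h.es.nor c hc q hq

theorem π_one : π 1 = 0 := by
  have := h.π_mul 1 (one_mem _) 1 (one_mem _)
  rwa [mul_one, left_eq_add] at this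

theorem π_t : π t = 0 := qf_nondeg.2 (π t) fun v => by
  obtain ⟨a, ha, rfl⟩ := h.π_surj v
  exact (h.comm a ha t h.es.mem).mp (h.es.comm a ha)

theorem π_inv {a : G} (ha : a ∈ Q) : π a⁻¹ = π a := by
  have := h.π_mul a ha a⁻¹ (inv_mem ha)
  rw [mul_inv_cancel, h.π_one] at this
  rw [← add_zero (π a⁻¹), ← V_add_self (π a), ← add_assoc, add_comm (π a⁻¹) (π a), ← this, zero_add]

theorem π_eq {a b : G} (ha : a ∈ Q) (hb : b ∈ Q) (e : π a = π b) : b = a ∨ b = a * t := by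
  have hab : π (a⁻¹ * b) = 0 := by rw [h.π_mul _ (inv_mem ha) _ hb, h.π_inv ha, e, V_add_self]
  rcases h.π_ker _ (mul_mem (inv_mem ha) hb) hab with e' | e'
  · exact Or.inl (inv_mul_eq_one.mp e').symm
  · exact Or.inr (inv_mul_eq_iff_eq_mul.mp e')

theorem M_one : M 1 = 1 := (h.M_ker 1 (by simp)).mpr (one_mem _)

theorem M_Q {q : G} (hq : q ∈ Q) : M q = 1 := (h.M_ker q (h.es.comm q hq)).mpr hq

theorem M_inv {c : G} (hc : c * t = t * c) : M c⁻¹ = (M c)⁻¹ := by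
  refine eq_inv_of_mul_eq_one_left ?_
  rw [← h.M_mul _ _ (Commute.inv_left hc) hc, inv_mul_cancel, h.M_one]

theorem M_conj {c d : G} (hc : c * t = t * c) (hd : d * t = t * d) : M (c * d * c⁻¹) = M c * M d * (M c)⁻¹ := by
  rw [h.M_mul _ _ (Commute.mul_left hc hd) (Commute.inv_left hc), h.M_mul _ _ hc hd, h.M_inv hc]

theorem comm_bf {a b : G} (ha : a ∈ Q) (hb : b ∈ Q) : a * b = b * a ↔ bf (π a) (π b) = 0 := h.comm a ha b hb

/-- Change of the coordinates by an isometry. -/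
theorem twist (σ : O8) : WT t Q (fun a => σ.1 (π a)) (fun c => σ * M c * σ⁻¹) := by
  refine ⟨h.es, h.card, fun a ha b hb => by show σ.1 _ = _; rw [h.π_mul a ha b hb, map_add],
    fun a ha e => h.π_ker a ha (σ.1.injective (by rw [e, map_zero])), fun v => ?_, fun a ha => ?_, fun a ha b hb => ?_,
    fun a b ha hb => ?_, fun c hc a ha => ?_, fun c hc => ?_, fun c hc => ?_, fun g hg => ?_, h.wc⟩
  · obtain ⟨a, ha, e⟩ := h.π_surj (σ.1.symm v)
    exact ⟨a, ha, by show σ.1 _ = v; rw [e, LinearEquiv.apply_symm_apply]⟩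
  · show _ ↔ qf (σ.1 (π a)) = 0
    rw [σ.2]; exact h.sq a ha
  · show _ ↔ bf (σ.1 (π a)) (σ.1 (π b)) = 0
    rw [bf_map]; exact h.comm a ha b hb
  · rw [h.M_mul a b ha hb]; group
  · show σ.1 (π (c * a * c⁻¹)) = σ.1 ((M c).1 (σ.1.symm (σ.1 (π a))))
    rw [LinearEquiv.symm_apply_apply, h.M_act c hc a ha]
  · show σ * M c * σ⁻¹ = 1 ↔ _
    rw [conj_eq_one_iff, h.M_ker c hc]
  · exact Subgroup.Normal.conj_mem inferInstance _ (h.M_mem c hc) σ
  · obtain ⟨c, hc, e⟩ := h.M_surj (σ⁻¹ * g * σ) (by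
      have := Subgroup.Normal.conj_mem (inferInstance : Om.Normal) _ hg σ⁻¹
      rwa [inv_inv] at this)
    exact ⟨c, hc, by show σ * M c * σ⁻¹ = g; rw [e]; group⟩

/-- The elements of `Q` over a submodule. -/
def pre (W : Submodule F2 V) : Subgroup G where
  carrier := {a | a ∈ Q ∧ π a ∈ W}
  one_mem' := ⟨one_mem _, by rw [h.π_one]; exact zero_mem _⟩
  mul_mem' := fun {a b} ha hb => ⟨mul_mem ha.1 hb.1, by rw [h.π_mul a ha.1 b hb.1]; exact add_mem ha.2 hb.2⟩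
  inv_mem' := fun {a} ha => ⟨inv_mem ha.1, by rw [h.π_inv ha.1]; exact ha.2⟩

theorem card_pre (W : Submodule F2 V) : Nat.card ↥(h.pre W) = 2 * Nat.card ↥W := by
  let f : ↥(h.pre W) →* Multiplicative ↥W :=
    MonoidHom.mk' (fun a => Multiplicative.ofAdd ⟨π a.1, a.2.2⟩) fun a b =>
      congrArg Multiplicative.ofAdd (Subtype.ext (h.π_mul _ a.2.1 _ b.2.1))
  have hsurj : Function.Surjective f := fun w => by
    obtain ⟨a, ha, e⟩ := h.π_surj (Multiplicative.toAdd w).1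
    exact ⟨⟨a, ha, by rw [e]; exact (Multiplicative.toAdd w).2⟩, congrArg Multiplicative.ofAdd (Subtype.ext e)⟩
  have hker : ∀ a : ↥(h.pre W), a ∈ f.ker ↔ a.1 = 1 ∨ a.1 = t := fun a => by
    rw [MonoidHom.mem_ker]
    refine ⟨fun e => h.π_ker _ a.2.1 (congrArg Subtype.val (congrArg Multiplicative.toAdd e)), fun e =>
      congrArg Multiplicative.ofAdd (Subtype.ext ?_)⟩
    show π a.1 = 0
    rcases e with e | e <;> rw [e]
    · exact h.π_one
    · exact h.π_t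
  have htW : t ∈ h.pre W := ⟨h.es.mem, by rw [h.π_t]; exact zero_mem _⟩
  have h2 : Nat.card ↥f.ker = 2 := by
    refine (Nat.card_eq_two_iff' (1 : ↥f.ker)).mpr ⟨⟨⟨t, htW⟩, (hker _).mpr (Or.inr rfl)⟩,
      fun e => h.es.ne (congrArg (fun a : ↥f.ker => (a.1.1 : G)) e), fun a ha => ?_⟩
    rcases (hker a.1).mp a.2 with e | e
    · exact absurd (Subtype.ext (Subtype.ext e)) ha
    · exact Subtype.ext (Subtype.ext e)
  have := f.ker.card_mul_index
  rw [h2, Subgroup.index_ker, MonoidHom.range_eq_top.mpr hsurj, Subgroup.card_top] at this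
  rw [← this]
  rfl

end WT

/-- `g` carries `t` to the commuting involution `y ≠ t`. -/
structure Pt (_h : WT t Q π M) (g y : G) : Prop where
  eq : g * t * g⁻¹ = y
  comm : y * t = t * y
  ne : y ≠ t

end

/-- No element of `Q` carries `y` to `y t`. -/
def Eps0 (t : G) (Q : Subgroup G) (y : G) : Prop := ∀ q ∈ Q, q * y * q⁻¹ ≠ y * t

/-- The centraliser of `y` in `Q`. -/
def Tg (Q : Subgroup G) (y : G) : Subgroup G := Q ⊓ Subgroup.centralizer ({y} : Set G)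

/-- The centraliser of `t` in the conjugate of `Q`. -/
def Bg (t : G) (Q : Subgroup G) (g : G) : Subgroup G :=
  CfsgLargeExtra.cj g Q ⊓ Subgroup.centralizer ({t} : Set G)

theorem mem_Tg {y a : G} : a ∈ Tg Q y ↔ a ∈ Q ∧ a * y = y * a :=
  ⟨fun e => ⟨e.1, mem_cent.mp e.2⟩, fun e => ⟨e.1, mem_cent.mpr e.2⟩⟩

theorem mem_Bg {g a : G} : a ∈ Bg t Q g ↔ a ∈ CfsgLargeExtra.cj g Q ∧ a * t = t * a :=
  ⟨fun e => ⟨e.1, mem_cent.mp e.2⟩, fun e => ⟨e.1, mem_cent.mpr e.2⟩⟩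

namespace Pt

variable {g y : G} {h : WT t Q π M} (P : Pt h g y)
include P

theorem twist (σ : O8) : Pt (h.twist σ) g y := ⟨P.eq, P.comm, P.ne⟩

theorem yy : y * y = 1 := by rw [← P.eq]; exact conj_sq' g h.zz

theorem y_inv : y⁻¹ = y := inv_eq_of_mul_eq_one_right P.yy

theorem not_mem : y ∉ Q := fun hy => P.ne (by
  rw [← P.eq] at hy ⊢
  exact h.wc g hy)

theorem symm : Pt h g⁻¹ (g⁻¹ * t * g) := by
  refine ⟨by rw [inv_inv], ?_, fun e => P.ne ?_⟩
  · calc g⁻¹ * t * g * t = g⁻¹ * (t * (g * t * g⁻¹)) * g := by group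
      _ = g⁻¹ * (g * t * g⁻¹ * t) * g := by rw [P.eq, P.comm]
      _ = t * (g⁻¹ * t * g) := by group
  · calc y = g * t * g⁻¹ := P.eq.symm
      _ = g * (g⁻¹ * t * g) * g⁻¹ := by rw [e]
      _ = t := by group

theorem es' : ES (CfsgLargeExtra.cj g Q) y := P.eq ▸ h.es.cj g

theorem wcy {k : G} (hk : k * t * k⁻¹ ∈ CfsgLargeExtra.cj g Q) : k * t * k⁻¹ = y := by
  have := h.wc (g⁻¹ * k) (by
    have := mem_cj.mp hk
    rwa [show g⁻¹ * k * t * (g⁻¹ * k)⁻¹ = g⁻¹ * (k * t * k⁻¹) * g by group])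
  calc k * t * k⁻¹ = g * (g⁻¹ * k * t * (g⁻¹ * k)⁻¹) * g⁻¹ := by group
    _ = y := by rw [this, P.eq]

theorem wcy_conj {a : G} (ha : a ∈ CfsgLargeExtra.cj g Q) (hc : IsConj t a) : a = y := by
  obtain ⟨k, rfl⟩ := isConj_iff.mp hc
  exact P.wcy ha

theorem t_not_mem : t ∉ CfsgLargeExtra.cj g Q := fun ht => P.ne (P.wcy_conj ht (IsConj.refl t)).symm

theorem conj_y : IsConj t y := isConj_iff.mpr ⟨g, P.eq⟩

theorem h2 : M y * M y = 1 := by rw [← h.M_mul y y P.comm P.comm, P.yy, h.M_one]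

theorem My_ne : M y ≠ 1 := fun e => P.not_mem ((h.M_ker y P.comm).mp e)

/-- The elements `y (q y q⁻¹)`. -/
theorem kk {q : G} (hq : q ∈ Q) : y * (q * y * q⁻¹) ∈ Q ∧ π (y * (q * y * q⁻¹)) = dsp (M y) (π q) := by
  have e : y * (q * y * q⁻¹) = y * q * y⁻¹ * q⁻¹ := by rw [P.y_inv]; group
  have h1 := h.nor_mem P.comm hq
  rw [e]
  exact ⟨mul_mem h1 (inv_mem hq), by
    rw [h.π_mul _ h1 _ (inv_mem hq), h.π_inv hq, h.M_act y P.comm q hq, dsp_apply]⟩

theorem cases_ker {q : G} (hq : q ∈ Q) (hv : dsp (M y) (π q) = 0) : q * y * q⁻¹ = y ∨ q * y * q⁻¹ = y * t := by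
  obtain ⟨h1, h2⟩ := P.kk hq
  rcases h.π_ker _ h1 (h2.trans hv) with e | e
  · left; rw [← inv_eq_of_mul_eq_one_right e, P.y_inv]
  · right; rw [← e, ← mul_assoc, P.yy, one_mul]

theorem T_ker {a : G} (ha : a ∈ Tg Q y) : dsp (M y) (π a) = 0 := by
  obtain ⟨h1, h2⟩ := mem_Tg.mp ha
  rw [← (P.kk h1).2, conj_fix_iff.mpr h2, P.yy, h.π_one]

theorem eps0_comm (h0 : Eps0 t Q y) {q : G} (hq : q ∈ Q) (hv : dsp (M y) (π q) = 0) : q ∈ Tg Q y :=
  mem_Tg.mpr ⟨hq, conj_fix_iff.mp ((P.cases_ker hq hv).resolve_right (h0 q hq))⟩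

theorem singular (h0 : Eps0 t Q y) (v : V) : qf (dsp (M y) v) = 0 := by
  obtain ⟨q, hq, rfl⟩ := h.π_surj v
  obtain ⟨hk, hπ⟩ := P.kk hq
  rw [← hπ, ← h.sq _ hk]
  set k := y * (q * y * q⁻¹) with hkdef
  have hki : k⁻¹ = q * y * q⁻¹ * y := inv_eq_of_mul_eq_one_right (by
    rw [hkdef, show y * (q * y * q⁻¹) * (q * y * q⁻¹ * y) = y * (q * (y * y) * q⁻¹) * y by group, P.yy,
      mul_one, mul_inv_cancel, mul_one, P.yy])
  rcases h.es.sq k hk with e | e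
  · exact e
  refine absurd ?_ (h0 k hk)
  calc k * y * k⁻¹ = k * k * y := by rw [hki]; simp only [hkdef, mul_assoc]
    _ = y * t := by rw [e, P.comm]

theorem even_rank : Even (finrank F2 (LinearMap.range (dsp (M y)))) := by
  have hd := dsp_sign (M y)
  rw [MonoidHom.mem_ker.mp (dickson_ker ▸ h.M_mem y P.comm)] at hd
  rcases Nat.even_or_odd (finrank F2 (LinearMap.range (dsp (M y)))) with e | e
  · exact e
  · rw [e.neg_one_pow] at hd; exact absurd hd (by decide)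

/-- The kernel has dimension four, five or six. -/
theorem ker_bounds : 4 ≤ finrank F2 (LinearMap.ker (dsp (M y))) ∧ finrank F2 (LinearMap.ker (dsp (M y))) ≤ 6 := by
  have h1 := LinearMap.finrank_range_add_finrank_ker (dsp (M y))
  rw [finrank_V] at h1
  have h2' := dsp_rank_le P.h2
  have h3 : finrank F2 (LinearMap.range (dsp (M y))) ≠ 0 := fun e => P.My_ne (ext_iso fun v => by
    show (M y).1 v = v
    have hm : dsp (M y) v ∈ LinearMap.range (dsp (M y)) := LinearMap.mem_range_self _ v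
    rw [Submodule.finrank_eq_zero.mp e, Submodule.mem_bot] at hm
    rw [map_eq_add_dsp, hm, add_zero])
  obtain ⟨k, hk⟩ := P.even_rank
  omega

theorem T_le : Tg Q y ≤ h.pre (LinearMap.ker (dsp (M y))) := fun a ha =>
  ⟨(mem_Tg.mp ha).1, LinearMap.mem_ker.mpr (P.T_ker ha)⟩

theorem T_eq (h0 : Eps0 t Q y) : Tg Q y = h.pre (LinearMap.ker (dsp (M y))) :=
  le_antisymm P.T_le fun _ ha => P.eps0_comm h0 ha.1 (LinearMap.mem_ker.mp ha.2)

theorem card_ker : Nat.card ↥(LinearMap.ker (dsp (M y))) = 2 ^ finrank F2 (LinearMap.ker (dsp (M y))) := by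
  rw [Module.natCard_eq_pow_finrank (K := F2), Nat.card_zmod]

theorem card_pre_le : Nat.card ↥(h.pre (LinearMap.ker (dsp (M y)))) ≤ 128 ∧
    32 ≤ Nat.card ↥(h.pre (LinearMap.ker (dsp (M y)))) := by
  rw [h.card_pre, P.card_ker]
  obtain ⟨h4, h6⟩ := P.ker_bounds
  have a1 := Nat.pow_le_pow_right (show 0 < 2 by norm_num) h4
  have a2 := Nat.pow_le_pow_right (show 0 < 2 by norm_num) h6
  omega

theorem card_pre_le_double : Nat.card ↥(h.pre (LinearMap.ker (dsp (M y)))) ≤ 2 * Nat.card ↥(Tg Q y) := by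
  classical
  set W := h.pre (LinearMap.ker (dsp (M y))) with hW
  by_cases hall : ∀ a ∈ W, a ∈ Tg Q y
  · have := Subgroup.card_le_of_le (fun a ha => hall a ha : W ≤ Tg Q y)
    omega
  push Not at hall
  obtain ⟨q0, hq0, hq0T⟩ := hall
  have he : ∀ a ∈ W, a ∉ Tg Q y → a * y * a⁻¹ = y * t := fun a ha haT =>
    (P.cases_ker ha.1 (LinearMap.mem_ker.mp ha.2)).resolve_left fun e =>
      haT (mem_Tg.mpr ⟨ha.1, conj_fix_iff.mp e⟩)
  have hsub : (W : Set G) ⊆ (Tg Q y : Set G) ∪ (fun a => q0⁻¹ * a) '' (Tg Q y : Set G) := by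
    intro a ha
    by_cases haT : a ∈ Tg Q y
    · exact Or.inl haT
    refine Or.inr ⟨q0 * a, mem_Tg.mpr ⟨mul_mem hq0.1 ha.1, conj_fix_iff.mp ?_⟩, by simp⟩
    rw [show q0 * a * y * (q0 * a)⁻¹ = q0 * (a * y * a⁻¹) * q0⁻¹ by group, he a ha haT,
      show q0 * (y * t) * q0⁻¹ = q0 * y * q0⁻¹ * (q0 * t * q0⁻¹) by group, conj_fix_iff.mpr (h.es.comm q0 hq0.1),
      he q0 hq0 hq0T, mul_assoc, h.zz, mul_one]
  have h1 := (Set.ncard_le_ncard hsub (Set.toFinite _)).trans (Set.ncard_union_le _ _)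
  rw [Set.ncard_image_of_injective _ (mul_right_injective q0⁻¹)] at h1
  rw [← Nat.card_coe_set_eq, ← Nat.card_coe_set_eq] at h1
  rw [two_mul]
  exact h1

theorem card_T_ge : 16 ≤ Nat.card ↥(Tg Q y) := by
  have := P.card_pre_le
  have := P.card_pre_le_double
  omega

theorem card_T_le (h0 : ¬ Eps0 t Q y) : Nat.card ↥(Tg Q y) ≤ 64 := by
  simp only [Eps0, not_forall, not_not] at h0
  obtain ⟨q, hq, e⟩ := h0
  have hqW : q ∈ h.pre (LinearMap.ker (dsp (M y))) := ⟨hq, LinearMap.mem_ker.mpr (by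
    rw [← (P.kk hq).2, e, ← mul_assoc, P.yy, one_mul, h.π_t])⟩
  have hqT : q ∉ Tg Q y := fun hT => h.es.ne (mul_eq_left.mp (e.symm.trans (conj_fix_iff.mpr (mem_Tg.mp hT).2)))
  have hne : Tg Q y < h.pre (LinearMap.ker (dsp (M y))) := lt_of_le_of_ne P.T_le fun e' => hqT (e' ▸ hqW)
  have hd := Subgroup.card_dvd_of_le hne.le
  have hlt : Nat.card ↥(Tg Q y) ≠ Nat.card ↥(h.pre (LinearMap.ker (dsp (M y)))) := fun e' =>
    hne.ne (Subgroup.eq_of_le_of_card_ge hne.le e'.ge)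
  obtain ⟨k, hk⟩ := hd
  have := P.card_pre_le
  have hk2 : 2 ≤ k := by
    rcases k with _ | _ | k
    · simp only [mul_zero] at hk; omega
    · simp only [zero_add, mul_one] at hk; exact absurd hk.symm hlt
    · omega
  have := Nat.mul_le_mul_left (Nat.card ↥(Tg Q y)) hk2
  omega

theorem Bg_eq : Bg t Q g = CfsgLargeExtra.cj g (Tg Q (g⁻¹ * t * g)) := by
  ext a
  rw [mem_Bg, mem_cj, mem_cj, mem_Tg]
  refine and_congr_right fun _ => ⟨fun e => ?_, fun e => ?_⟩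
  · calc g⁻¹ * a * g * (g⁻¹ * t * g) = g⁻¹ * (a * t) * g := by group
      _ = g⁻¹ * (t * a) * g := by rw [e]
      _ = g⁻¹ * t * g * (g⁻¹ * a * g) := by group
  · calc a * t = g * (g⁻¹ * a * g * (g⁻¹ * t * g)) * g⁻¹ := by group
      _ = g * (g⁻¹ * t * g * (g⁻¹ * a * g)) * g⁻¹ := by rw [e]
      _ = t * a := by group

theorem card_B : Nat.card ↥(Bg t Q g) = Nat.card ↥(Tg Q (g⁻¹ * t * g)) := by
  rw [P.Bg_eq]
  exact Subgroup.card_map_of_injective (f := (MulAut.conj g).toMonoidHom) (MulAut.conj g).injective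

theorem card_B_ge : 16 ≤ Nat.card ↥(Bg t Q g) := by rw [P.card_B]; exact P.symm.card_T_ge

theorem B_comm_y {b : G} (hb : b ∈ Bg t Q g) : b * y = y * b := P.es'.comm b (mem_Bg.mp hb).1

theorem y_B : y ∈ Bg t Q g := mem_Bg.mpr ⟨P.es'.mem, P.comm⟩

/-! ### The intersection of the two extraspecial groups -/

theorem mem_E {e : G} (he : e ∈ Q) (he' : e ∈ CfsgLargeExtra.cj g Q) :
    e ∈ Tg Q y ∧ e ∈ Bg t Q g ∧ e * e = 1 ∧ (π e = 0 → e = 1) := by
  refine ⟨mem_Tg.mpr ⟨he, P.es'.comm e he'⟩, mem_Bg.mpr ⟨he', h.es.comm e he⟩, ?_, fun e0 => ?_⟩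
  · rcases h.es.sq e he with e1 | e1
    · exact e1
    rcases P.es'.sq e he' with e2 | e2
    · exact e2
    exact absurd (e2.symm.trans e1) P.ne
  · rcases h.π_ker e he e0 with e1 | e1
    · exact e1
    · exact absurd (e1 ▸ he') P.t_not_mem

theorem comm_E {τ b : G} (hτ : τ ∈ Tg Q y) (hb : b ∈ Bg t Q g) :
    τ * b * τ⁻¹ * b⁻¹ ∈ Q ∧ τ * b * τ⁻¹ * b⁻¹ ∈ CfsgLargeExtra.cj g Q := by
  obtain ⟨h1, h2⟩ := mem_Tg.mp hτ
  obtain ⟨h3, h4⟩ := mem_Bg.mp hb
  refine ⟨?_, mul_mem (P.es'.nor τ h2 b h3) (inv_mem h3)⟩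
  rw [show τ * b * τ⁻¹ * b⁻¹ = τ * (b * τ⁻¹ * b⁻¹) by group]
  exact mul_mem h1 (h.nor_mem h4 (inv_mem h1))

theorem E_comm_T {e τ : G} (he : e ∈ Q) (he' : e ∈ CfsgLargeExtra.cj g Q) (hτ : τ ∈ Tg Q y) : τ * e = e * τ := by
  obtain ⟨-, heB, -, -⟩ := P.mem_E he he'
  rcases h.es.conj_cases (mem_Tg.mp hτ).1 he with e1 | e1
  · exact conj_fix_iff.mp e1
  · refine absurd ?_ P.t_not_mem
    have h2 := (P.comm_E hτ heB).2
    have hc : e * t * e⁻¹ = t := conj_fix_iff.mpr (h.es.comm e he)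
    rwa [e1, hc] at h2

theorem E_comm_B {e b : G} (he : e ∈ Q) (he' : e ∈ CfsgLargeExtra.cj g Q) (hb : b ∈ Bg t Q g) : b * e = e * b := by
  rcases P.es'.conj_cases (mem_Bg.mp hb).1 he' with e1 | e1
  · exact conj_fix_iff.mp e1
  · refine absurd ?_ P.not_mem
    have h2 : b * e * b⁻¹ * e⁻¹ ∈ Q := mul_mem (h.nor_mem (mem_Bg.mp hb).2 he) (inv_mem he)
    have hc : e * y * e⁻¹ = y := conj_fix_iff.mpr (P.es'.comm e he')
    rwa [e1, hc] at h2

theorem E_range (h0 : Eps0 t Q y) {e : G} (he : e ∈ Q) (he' : e ∈ CfsgLargeExtra.cj g Q) :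
    ∃ w, dsp (M y) w = π e := by
  refine exists_dsp P.h2 fun v hv => ?_
  obtain ⟨q, hq, rfl⟩ := h.π_surj v
  exact (h.comm_bf hq he).mp (P.E_comm_T he he' (P.eps0_comm h0 hq hv))

/-- A conjugate of `y` under `Q` gives nothing in the intersection. -/
theorem K_inter {q : G} (hq : q ∈ Q) (h' : y * (q * y * q⁻¹) ∈ CfsgLargeExtra.cj g Q) :
    y * (q * y * q⁻¹) = 1 := by
  have h1 : q * y * q⁻¹ ∈ CfsgLargeExtra.cj g Q := by
    have := mul_mem P.es'.mem h'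
    rwa [← mul_assoc, P.yy, one_mul] at this
  rw [P.wcy_conj h1 (P.conj_y.trans (isConj_iff.mpr ⟨q, rfl⟩)), P.yy]

theorem E_range_small (h0 : ¬ Eps0 t Q y) {e : G} (he : e ∈ Q) (he' : e ∈ CfsgLargeExtra.cj g Q) {w : V}
    (hw : dsp (M y) w = π e) : e = 1 := by
  obtain ⟨q, hq, rfl⟩ := h.π_surj w
  obtain ⟨hk, hπ⟩ := P.kk hq
  rcases h.π_eq hk he (hπ.trans hw) with e1 | e1
  · rw [e1] at he' ⊢
    exact P.K_inter hq he'
  · simp only [Eps0, not_forall, not_not] at h0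
    obtain ⟨q0, hq0, e0⟩ := h0
    have e2 : e = y * (q * q0 * y * (q * q0)⁻¹) := by
      rw [show q * q0 * y * (q * q0)⁻¹ = q * (q0 * y * q0⁻¹) * q⁻¹ by group, e0,
        show q * (y * t) * q⁻¹ = q * y * q⁻¹ * (q * t * q⁻¹) by group, conj_fix_iff.mpr (h.es.comm q hq),
        ← mul_assoc, e1]
    rw [e2] at he' ⊢
    exact P.K_inter (mul_mem hq hq0) he'

theorem E_small (h0 : ¬ Eps0 t Q y) {e e' : G} (he : e ∈ Q) (hE : e ∈ CfsgLargeExtra.cj g Q) (he2 : e' ∈ Q)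
    (hE' : e' ∈ CfsgLargeExtra.cj g Q) (h1 : e ≠ 1) (h1' : e' ≠ 1) : e = e' := by
  have key : ∀ {e : G}, e ∈ Q → e ∈ CfsgLargeExtra.cj g Q → e ≠ 1 → ∀ q ∈ Q, dsp (M y) (π q) = 0 →
      q ∉ Tg Q y → bf (π q) (π e) = 1 := by
    intro e he hE hne q hq hv hqT
    refine bf_eq_one fun e0 => hne ?_
    obtain ⟨w, hw⟩ := exists_dsp P.h2 (φ := π e) fun v hv' => by
      obtain ⟨q', hq', rfl⟩ := h.π_surj v
      by_cases hT : q' ∈ Tg Q y
      · exact (h.comm_bf hq' he).mp (P.E_comm_T he hE hT)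
      have hcase : ∀ a ∈ Q, dsp (M y) (π a) = 0 → a ∉ Tg Q y → a * y * a⁻¹ = y * t := fun a ha hva haT =>
        (P.cases_ker ha hva).resolve_left fun e => haT (mem_Tg.mpr ⟨ha, conj_fix_iff.mp e⟩)
      have hprod : q * q' ∈ Tg Q y := mem_Tg.mpr ⟨mul_mem hq hq', conj_fix_iff.mp (by
        rw [show q * q' * y * (q * q')⁻¹ = q * (q' * y * q'⁻¹) * q⁻¹ by group, hcase q' hq' hv' hT,
          show q * (y * t) * q⁻¹ = q * y * q⁻¹ * (q * t * q⁻¹) by group, conj_fix_iff.mpr (h.es.comm q hq),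
          hcase q hq hv hqT, mul_assoc, h.zz, mul_one])⟩
      have h2 := (h.comm_bf (mul_mem hq hq') he).mp (P.E_comm_T he hE hprod)
      rwa [h.π_mul q hq q' hq', bf_add_left, e0, zero_add] at h2
    exact P.E_range_small h0 he hE hw
  obtain ⟨w, hw⟩ := exists_dsp P.h2 (φ := π (e * e')) fun v hv => by
    obtain ⟨q, hq, rfl⟩ := h.π_surj v
    by_cases hT : q ∈ Tg Q y
    · exact (h.comm_bf hq (mul_mem he he2)).mp (P.E_comm_T (mul_mem he he2) (mul_mem hE hE') hT)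
    · rw [h.π_mul e he e' he2, bf_add_right, key he hE h1 q hq hv hT, key he2 hE' h1' q hq hv hT, F2_add_self]
  have h3 := P.E_range_small h0 (mul_mem he he2) (mul_mem hE hE') hw
  calc e = e * (e' * e') := by rw [(P.mem_E he2 hE').2.2.1, mul_one]
    _ = e' := by rw [← mul_assoc, h3, one_mul]

/-- A nontrivial intersection, both pairs split, and `y t` a conjugate: impossible. -/
theorem no_conj_prod (h0' : Eps0 t Q (g⁻¹ * t * g)) {e : G} (he : e ∈ Q) (hE : e ∈ CfsgLargeExtra.cj g Q)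
    (h1 : e ≠ 1) : ¬ IsConj t (y * t) := by
  intro hc
  set y' := g⁻¹ * t * g with hy'
  set e' := g⁻¹ * e * g with he'
  have he'Q : e' ∈ Q := mem_cj.mp hE
  have hE' : e' ∈ CfsgLargeExtra.cj g⁻¹ Q := by
    rw [mem_cj, inv_inv, show g * e' * g⁻¹ = e by rw [he']; group]; exact he
  obtain ⟨w, hw⟩ := P.symm.E_range h0' he'Q hE'
  obtain ⟨q, hq, rfl⟩ := h.π_surj w
  obtain ⟨hk, hπ⟩ := P.symm.kk hq
  rcases h.π_eq hk he'Q (hπ.trans hw) with e1 | e1
  · have h2 := P.symm.K_inter hq (e1 ▸ hE')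
    refine h1 ?_
    calc e = g * e' * g⁻¹ := by rw [he']; group
      _ = 1 := by rw [e1, h2]; group
  · have hyt : IsConj t (y' * t) := hc.trans (isConj_iff.mpr ⟨g⁻¹, by
      calc g⁻¹ * (y * t) * g⁻¹⁻¹ = g⁻¹ * (g * t * g⁻¹ * t) * g := by rw [P.eq, inv_inv]
        _ = t * y' := by rw [hy']; group
        _ = y' * t := P.symm.comm.symm⟩)
    have h3 : IsConj t (y' * e') := hyt.trans (isConj_iff.mpr ⟨q, by
      have hye : ∀ a b c : G, a * a = 1 → c = a * b * t → a * c = b * t := fun a b c ha hc' => by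
        rw [hc', ← mul_assoc, ← mul_assoc, ha, one_mul]
      rw [hye y' _ e' P.symm.yy e1,
        show q * (y' * t) * q⁻¹ = q * y' * q⁻¹ * (q * t * q⁻¹) by group, conj_fix_iff.mpr (h.es.comm q hq)]⟩)
    have h4 : IsConj t (t * e) := h3.trans (isConj_iff.mpr ⟨g, by rw [hy', he']; group⟩)
    obtain ⟨k, hk'⟩ := isConj_iff.mp h4
    have h5 := h.wc k (hk' ▸ mul_mem h.es.mem he)
    exact h1 (mul_eq_left.mp (hk'.symm.trans h5))

/-! ### Lifts of elements commuting with `M y` -/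

theorem lift_pm (h0 : Eps0 t Q y) {u : O8} (hu : u ∈ Om) (hcomm : u * M y = M y * u) :
    ∃ c : G, c * t = t * c ∧ M c = u ∧ (c * y * c⁻¹ = y ∨ c * y * c⁻¹ = y * t) := by
  obtain ⟨c, hc, rfl⟩ := h.M_surj u hu
  have hyc : c * y * c⁻¹ * t = t * (c * y * c⁻¹) :=
    Commute.mul_left (Commute.mul_left hc P.comm) (Commute.inv_left hc)
  set k0 := y * (c * y * c⁻¹) with hk0
  have hk0t : k0 * t = t * k0 := Commute.mul_left P.comm hyc
  have hk0Q : k0 ∈ Q := (h.M_ker k0 hk0t).mp (by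
    rw [hk0, h.M_mul _ _ P.comm hyc, h.M_conj hc P.comm, hcomm, mul_inv_cancel_right, P.h2])
  obtain ⟨w, hw⟩ := exists_dsp P.h2 (φ := π k0) fun v hv => by
    obtain ⟨q, hq, rfl⟩ := h.π_surj v
    refine (h.comm_bf hq hk0Q).mp ?_
    have hq' : c⁻¹ * q * c ∈ Q := by
      have := h.nor_mem (show c⁻¹ * t = t * c⁻¹ from Commute.inv_left hc) hq
      rwa [inv_inv] at this
    have hv' : dsp (M y) (π (c⁻¹ * q * c)) = 0 := by
      have e : π q = (M c).1 (π (c⁻¹ * q * c)) := by rw [← h.M_act c hc _ hq']; group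
      rw [dsp_apply]
      apply (M c).1.injective
      have e2 : ∀ x, (M c).1 ((M y).1 x) = (M y).1 ((M c).1 x) := fun x =>
        LinearEquiv.congr_fun (congrArg Subtype.val hcomm) x
      rw [map_add, e2, ← e, map_zero, ← dsp_apply, hv]
    have h1 := (mem_Tg.mp (P.eps0_comm h0 hq hv)).2
    have h2' := (mem_Tg.mp (P.eps0_comm h0 hq' hv')).2
    have h3 : q * (c * y * c⁻¹) = c * y * c⁻¹ * q := by
      calc q * (c * y * c⁻¹) = c * (c⁻¹ * q * c * y) * c⁻¹ := by group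
        _ = c * (y * (c⁻¹ * q * c)) * c⁻¹ := by rw [h2']
        _ = c * y * c⁻¹ * q := by group
    exact Commute.mul_right h1 h3
  obtain ⟨q, hq, rfl⟩ := h.π_surj w
  obtain ⟨hk, hπ⟩ := P.kk hq
  refine ⟨q⁻¹ * c, Commute.mul_left (Commute.inv_left (h.es.comm q hq)) hc, ?_, ?_⟩
  · rw [h.M_mul _ _ (Commute.inv_left (h.es.comm q hq)) hc, h.M_Q (inv_mem hq), one_mul]
  · have hval : c * y * c⁻¹ = q * y * q⁻¹ ∨ c * y * c⁻¹ = q * y * q⁻¹ * t := by
      rcases h.π_eq hk hk0Q (hπ.trans hw) with e | e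
      · exact Or.inl (mul_left_cancel e)
      · exact Or.inr (mul_left_cancel (e.trans (mul_assoc _ _ _)))
    rw [show q⁻¹ * c * y * (q⁻¹ * c)⁻¹ = q⁻¹ * (c * y * c⁻¹) * q by group]
    rcases hval with e | e <;> rw [e]
    · left; group
    · right
      rw [show q⁻¹ * (q * y * q⁻¹ * t) * q = y * q⁻¹ * (t * q) by group, show t * q = q * t from (h.es.comm q hq).symm]
      group

theorem lift_sq (h0 : Eps0 t Q y) {u : O8} (hu : u ∈ Om) (hcomm : u * M y = M y * u) :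
    ∃ c : G, c * t = t * c ∧ c * y = y * c ∧ M c = u * u := by
  obtain ⟨c, hc, rfl, e⟩ := P.lift_pm h0 hu hcomm
  refine ⟨c * c, Commute.mul_left hc hc, conj_fix_iff.mp ?_, h.M_mul c c hc hc⟩
  rw [show c * c * y * (c * c)⁻¹ = c * (c * y * c⁻¹) * c⁻¹ by group]
  rcases e with e | e
  · rw [e, e]
  · rw [e, show c * (y * t) * c⁻¹ = c * y * c⁻¹ * (c * t * c⁻¹) by group, conj_fix_iff.mpr hc, e, mul_assoc, h.zz,
      mul_one]

theorem lift_fix (h0 : Eps0 t Q y) (hnc : ¬ IsConj t (y * t)) {u : O8} (hu : u ∈ Om)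
    (hcomm : u * M y = M y * u) : ∃ c : G, c * t = t * c ∧ c * y = y * c ∧ M c = u := by
  obtain ⟨c, hc, hM, e⟩ := P.lift_pm h0 hu hcomm
  rcases e with e | e
  · exact ⟨c, hc, conj_fix_iff.mp e, hM⟩
  · exact absurd (P.conj_y.trans (isConj_iff.mpr ⟨c, e⟩)) hnc

theorem nor' {c a : G} (hc : c * y = y * c) (ha : a ∈ CfsgLargeExtra.cj g Q) :
    c * a * c⁻¹ ∈ CfsgLargeExtra.cj g Q := P.es'.nor c hc a ha

/-- Normal forms of a split pair. -/
theorem exists_std (h0 : Eps0 t Q y) : ∃ σ : O8, σ * M y * σ⁻¹ = J2 ∨ σ * M y * σ⁻¹ = J4 :=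
  singular_std P.h2 P.My_ne (P.singular h0)

end Pt

end CfsgLib.ConwayWeak
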