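import Cfsg.Agent.Lib.ConwayWeak.TwoRank

/-!
An involution weakly closed in the extraspecial 2-core of its centraliser: split pairs of rank four.
-/

set_option autoImplicit false
set_option linter.unusedSectionVars false
set_option maxRecDepth 20000
set_option synthInstance.maxSize 4096
set_option synthInstance.maxHeartbeats 400000

namespace CfsgLib.ConwayWeak

open QuadraticMap Module CfsgLargeExtra CfsgLib.ConwayType
open CfsgLib.HallJankoType (mem_cent conj_fix_iff)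

theorem dsp_J4_R (w : V) : InR4 (dsp J4 w) := by
  rw [dsp_J4]; revert w; decide +kernel

theorem f_points : dsp J4 f1 = e0 ∧ dsp J4 (Pi.single (.inr 3) 1) = e2 ∧ bf f1 e2 = 0 ∧ InR4 e0 ∧ InR4 e2 ∧
    e0 ≠ e2 ∧ e0 ≠ 0 ∧ e2 ≠ 0 := by
  refine ⟨by rw [dsp_J4]; decide +kernel, by rw [dsp_J4]; decide +kernel, ?_⟩
  decide +kernel

theorem pf_J4 : pf (pdat J4) = 1 := by
  simp only [pdat, dsp_J4]
  decide +kernel

theorem pdat_mul (g g' : O8) (hg : ∀ v, InR4 v → g.1 v = v) (hg' : ∀ v, InR4 v → g'.1 v = v) :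
    pdat (g * g') = pdat g + pdat g' := by
  have e : ∀ v, dsp (g * g') v = dsp g v + dsp g' v := fun v => by
    rw [dsp_mul, hg _ ((dsp_alt hg').1 v), add_comm]
  funext i
  simp only [pdat, e]
  fin_cases i <;> rfl

variable {G : Type*} [Group G] [Finite G] {t : G} {Q : Subgroup G} {π : G → V} {M : G → O8}
  {g y : G} {h : WT t Q π M}

theorem Pt.E_trivial_std (P : Pt h g y) (h0 : Eps0 t Q y) (hJ : M y = J4) {e : G} (he : e ∈ Q)
    (he' : e ∈ CfsgLargeExtra.cj g Q) : e = 1 := by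
  classical
  by_contra hne
  have hER : ∀ e ∈ Q, e ∈ CfsgLargeExtra.cj g Q → InR4 (π e) := fun e he he' => by
    obtain ⟨w, hw⟩ := P.E_range h0 he he'
    rw [← hw, hJ]; exact dsp_J4_R w
  have hπ0 : π e ≠ 0 := fun e' => hne ((P.mem_E he he').2.2.2 e')
  obtain ⟨c, hct, hcy, hcM⟩ := P.lift_sq h0 H5'_mem (hJ.symm ▸ H5'_comm)
  rw [H5'_sq] at hcM
  let S : V → Prop := fun x => ∃ a ∈ Q, a ∈ CfsgLargeExtra.cj g Q ∧ π a = x
  have hS0 : S 0 := ⟨1, one_mem _, one_mem _, h.π_one⟩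
  have hadd : ∀ x z, S x → S z → S (x + z) := by
    rintro _ _ ⟨a, ha, ha', rfl⟩ ⟨b, hb, hb', rfl⟩
    exact ⟨a * b, mul_mem ha hb, mul_mem ha' hb', h.π_mul a ha b hb⟩
  have hsm : ∀ (r : F2) x, S x → S (r • x) := fun r x hx => by
    rcases F2_cases r with rfl | rfl
    · rwa [zero_smul]
    · rwa [one_smul]
  have hH : ∀ x, S x → S (H5.1 x) := by
    rintro _ ⟨a, ha, ha', rfl⟩
    exact ⟨c * a * c⁻¹, h.nor_mem hct ha, P.nor' hcy ha', by rw [h.M_act c hct a ha, hcM]⟩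
  have hx : S (π e) := ⟨e, he, he', rfl⟩
  have hbas : ∀ w ∈ [e0, e2], S w := fun w hw => by
    obtain ⟨r, rfl⟩ := orbit_H5 _ (hER e he he') hπ0 w hw
    exact hadd _ _ (hadd _ _ (hadd _ _ (hsm _ _ hx) (hsm _ _ (hH _ hx))) (hsm _ _ (hH _ (hH _ hx))))
      (hsm _ _ (hH _ (hH _ (hH _ hx))))
  obtain ⟨a0, ha0, ha0', hπa0⟩ := hbas e0 (by simp)
  obtain ⟨a2, ha2, ha2', hπa2⟩ := hbas e2 (by simp)
  obtain ⟨hf1, hf3, hfb, -, -, h02, h00, h20⟩ := f_points
  obtain ⟨q1, hq1, hπq1⟩ := h.π_surj f1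
  obtain ⟨q3, hq3, hπq3⟩ := h.π_surj (Pi.single (.inr 3) 1)
  have hlift : ∀ a ∈ Q, a ∈ CfsgLargeExtra.cj g Q → π a ≠ 0 → ∀ q ∈ Q, dsp (M y) (π q) = π a →
      a = y * (q * y * q⁻¹) * t := by
    intro a ha ha' hne q hq hd
    rcases h.π_eq (P.kk hq).1 ha ((P.kk hq).2.trans hd) with e' | e'
    · exact absurd (by rw [e', P.K_inter hq (e' ▸ ha'), h.π_one]) hne
    · exact e'
  have e1' := hlift a0 ha0 ha0' (hπa0 ▸ h00) q1 hq1 (by rw [hJ, hπq1, hf1, hπa0])
  have e3' := hlift a2 ha2 ha2' (hπa2 ▸ h20) q3 hq3 (by rw [hJ, hπq3, hf3, hπa2])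
  set k := y * (q1 * y * q1⁻¹) with hk
  set k' := y * (q3 * y * q3⁻¹) with hk'
  have hk'Q : k' ∈ Q := (P.kk hq3).1
  have hc1 : q1 * k' = k' * q1 := (h.comm_bf hq1 hk'Q).mpr (by rw [(P.kk hq3).2, hJ, hπq1, hπq3, hf3, hfb])
  have hprod : a0 * a2 = y * (q1 * q3 * y * (q1 * q3)⁻¹) := by
    have hq3' : q3 * y * q3⁻¹ = y * k' := by rw [hk', ← mul_assoc, P.yy, one_mul]
    have ht : t * k' = k' * t := (h.es.comm k' hk'Q).symm
    calc a0 * a2 = k * t * (k' * t) := by rw [e1', e3']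
      _ = k * (t * k') * t := by group
      _ = k * k' * (t * t) := by rw [ht]; group
      _ = k * k' := by rw [h.zz, mul_one]
      _ = y * (q1 * y * q1⁻¹) * k' := rfl
      _ = y * (q1 * y * (q1⁻¹ * k')) := by group
      _ = y * (q1 * (y * k') * q1⁻¹) := by
        rw [show q1⁻¹ * k' = k' * q1⁻¹ from (Commute.inv_left hc1).eq]; group
      _ = y * (q1 * q3 * y * (q1 * q3)⁻¹) := by rw [← hq3']; group
  have h1 : a0 * a2 = 1 := hprod.trans (P.K_inter (mul_mem hq1 hq3) (hprod ▸ mul_mem ha0' ha2'))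
  refine h02 ?_
  rw [← hπa0, ← hπa2, eq_inv_of_mul_eq_one_left h1, h.π_inv ha2]

theorem Pt.E_trivial (P : Pt h g y) (h0 : Eps0 t Q y) {e : G} (he : e ∈ Q) (he' : e ∈ CfsgLargeExtra.cj g Q) :
    e = 1 := by
  obtain ⟨σ, hσ⟩ := P.rank_four h0
  exact (P.twist σ).E_trivial_std h0 hσ he he'

theorem Pt.comm_TB (P : Pt h g y) (h0 : Eps0 t Q y) {τ b : G} (hτ : τ ∈ Tg Q y) (hb : b ∈ Bg t Q g) :
    τ * b = b * τ := by
  obtain ⟨h1, h2⟩ := P.comm_E hτ hb
  have := P.E_trivial h0 h1 h2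
  rw [mul_inv_eq_one, mul_inv_eq_iff_eq_mul] at this
  exact this

/-- The kernel of a displacement of rank four has sixteen elements. -/
theorem card_ker_four {T σ : O8} (hσ : σ * T * σ⁻¹ = J4) : Nat.card ↥(LinearMap.ker (dsp T)) = 16 := by
  have hiff : ∀ v, dsp T v = 0 ↔ InR4 (σ.1 v) := fun v => by
    rw [← ker_J4, ← hσ, dsp_conj]
    have e : σ⁻¹.1 (σ.1 v) = v := σ.1.symm_apply_apply v
    rw [e, LinearEquiv.map_eq_zero_iff]
  let f : ↥(LinearMap.ker (dsp T)) → (Fin 4 → F2) := fun v i => xa (σ.1 v.1) i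
  have hf : Function.Bijective f := by
    refine ⟨fun v w e => Subtype.ext (σ.1.injective (funext fun k => ?_)), fun x => ?_⟩
    · rcases k with k | k
      · exact congrFun e k
      · exact ((hiff _).mp (LinearMap.mem_ker.mp v.2) k).trans ((hiff _).mp (LinearMap.mem_ker.mp w.2) k).symm
    · refine ⟨⟨σ.1.symm (vec x 0), LinearMap.mem_ker.mpr ((hiff _).mpr ?_)⟩, funext fun i => ?_⟩
      · rw [LinearEquiv.apply_symm_apply]; intro i; rfl
      · show xa (σ.1 (σ.1.symm (vec x 0))) i = x i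
        rw [LinearEquiv.apply_symm_apply]; rfl
  rw [Nat.card_congr (Equiv.ofBijective f hf)]
  simp [Nat.card_eq_fintype_card]

theorem Pt.card_T_four (P : Pt h g y) (h0 : Eps0 t Q y) : Nat.card ↥(Tg Q y) = 32 := by
  obtain ⟨σ, hσ⟩ := P.rank_four h0
  rw [P.T_eq h0, h.card_pre, card_ker_four hσ]

/-- `C_Q(y)` is elementary abelian. -/
theorem Pt.T_elementary (P : Pt h g y) (h0 : Eps0 t Q y) {a b : G} (ha : a ∈ Tg Q y) (hb : b ∈ Tg Q y) :
    a * a = 1 ∧ a * b = b * a := by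
  obtain ⟨σ, hσ⟩ := P.rank_four h0
  have hR : ∀ a ∈ Tg Q y, InR4 (σ.1 (π a)) := fun a ha => (ker_J4 _).mp (hσ ▸ (P.twist σ).T_ker ha)
  exact ⟨((h.twist σ).sq a (mem_Tg.mp ha).1).mpr (R4_iso _ _ (hR a ha) (hR a ha)).1,
    ((h.twist σ).comm a (mem_Tg.mp ha).1 b (mem_Tg.mp hb).1).mpr (R4_iso _ _ (hR a ha) (hR b hb)).2⟩

theorem Pt.fix_R4 (P : Pt h g y) (h0 : Eps0 t Q y) (hJ : M y = J4) {b : G} (hb : b ∈ Bg t Q g) :
    ∀ v, InR4 v → (M b).1 v = v := fun v hv => by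
  obtain ⟨q, hq, rfl⟩ := h.π_surj v
  have hqT := P.eps0_comm h0 hq (by rw [hJ, ker_J4]; exact hv)
  rw [← h.M_act b (mem_Bg.mp hb).2 q hq, conj_fix_iff.mpr (P.comm_TB h0 hqT hb).symm]

/-- `C(t)` meets the conjugate of `Q` in an elementary abelian group. -/
theorem Pt.B_elementary_std (P : Pt h g y) (h0 : Eps0 t Q y) (hJ : M y = J4) {a b : G} (ha : a ∈ Bg t Q g)
    (hb : b ∈ Bg t Q g) : a * a = 1 ∧ a * b = b * a := by
  have hM : ∀ a ∈ Bg t Q g, ∀ b ∈ Bg t Q g, ∀ v, dsp (M (a * b)) v = dsp (M a) v + dsp (M b) v :=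
    fun a ha b hb v => by
    rw [h.M_mul _ _ (mem_Bg.mp ha).2 (mem_Bg.mp hb).2, dsp_mul,
      P.fix_R4 h0 hJ ha _ ((dsp_alt (P.fix_R4 h0 hJ hb)).1 v), add_comm]
  have hone : ∀ c ∈ Bg t Q g, M c = 1 → c = 1 := fun c hc e =>
    P.E_trivial h0 ((h.M_ker c (mem_Bg.mp hc).2).mp e) (mem_Bg.mp hc).1
  refine ⟨hone _ (mul_mem ha ha) (dsp_inj (LinearMap.ext fun v => ?_)), ?_⟩
  · rw [hM a ha a ha, V_add_self, dsp_apply]; exact (V_add_self v).symm
  · have hat := (mem_Bg.mp ha).2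
    have hbt := (mem_Bg.mp hb).2
    have h1 : M (a * b) = M (b * a) := dsp_inj (LinearMap.ext fun v => by
      rw [hM a ha b hb, hM b hb a ha, add_comm])
    have h2 := hone _ (mul_mem (inv_mem (mul_mem hb ha)) (mul_mem ha hb)) (by
      rw [h.M_mul _ _ (Commute.inv_left (Commute.mul_left hbt hat)) (Commute.mul_left hat hbt),
        h.M_inv (Commute.mul_left hbt hat), h1, inv_mul_cancel])
    exact (inv_mul_eq_one.mp h2).symm

theorem Pt.B_elementary (P : Pt h g y) (h0 : Eps0 t Q y) {a b : G} (ha : a ∈ Bg t Q g) (hb : b ∈ Bg t Q g) :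
    a * a = 1 ∧ a * b = b * a := by
  obtain ⟨σ, hσ⟩ := P.rank_four h0
  exact (P.twist σ).B_elementary_std h0 hσ ha hb

/-- In the reversed pair the kernel is the range. -/
theorem Pt.symm_ker (P : Pt h g y) (h0 : Eps0 t Q y) {v : V} (hv : dsp (M (g⁻¹ * t * g)) v = 0) :
    ∃ w, dsp (M (g⁻¹ * t * g)) w = v := by
  classical
  set y' := g⁻¹ * t * g
  have P' : Pt h g⁻¹ y' := P.symm
  have hB : ∀ a ∈ Tg Q y', g * a * g⁻¹ ∈ Bg t Q g := fun a ha => by
    rw [P.Bg_eq]; exact conj_mem_cj ha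
  have hel : ∀ a ∈ Tg Q y', ∀ b ∈ Tg Q y', a * a = 1 ∧ a * b = b * a := fun a ha b hb => by
    obtain ⟨h1, h2⟩ := P.B_elementary h0 (hB a ha) (hB b hb)
    constructor
    · calc a * a = g⁻¹ * (g * a * g⁻¹ * (g * a * g⁻¹)) * g := by group
        _ = 1 := by rw [h1]; group
    · calc a * b = g⁻¹ * (g * a * g⁻¹ * (g * b * g⁻¹)) * g := by group
        _ = g⁻¹ * (g * b * g⁻¹ * (g * a * g⁻¹)) * g := by rw [h2]
        _ = b * a := by group
  let W : Submodule F2 V :=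
    { carrier := {x | ∃ a ∈ Tg Q y', π a = x}
      zero_mem' := ⟨1, one_mem _, h.π_one⟩
      add_mem' := by
        rintro _ _ ⟨a, ha, rfl⟩ ⟨b, hb, rfl⟩
        exact ⟨a * b, mul_mem ha hb, h.π_mul a (mem_Tg.mp ha).1 b (mem_Tg.mp hb).1⟩
      smul_mem' := fun r x hx => by
        rcases F2_cases r with rfl | rfl
        · rw [zero_smul]; exact ⟨1, one_mem _, h.π_one⟩
        · rwa [one_smul] }
  have hle : W ≤ LinearMap.BilinForm.orthogonal (polarBilin qf) W := by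
    rintro _ ⟨a, ha, rfl⟩ _ ⟨b, hb, rfl⟩
    exact (h.comm b (mem_Tg.mp hb).1 a (mem_Tg.mp ha).1).mp (hel b hb a ha).2
  have hrefl : (polarBilin qf).IsRefl := fun a b e => by
    show bf b a = 0
    rw [bf_comm]; exact e
  have hW4 : finrank F2 W ≤ 4 := by
    have h1 := Submodule.finrank_mono hle
    rw [LinearMap.BilinForm.finrank_orthogonal qf_nondeg, finrank_V] at h1
    omega
  have hcW : Nat.card ↥W ≤ 16 := by
    rw [Module.natCard_eq_pow_finrank (K := F2), Nat.card_zmod]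
    exact (Nat.pow_le_pow_right (by norm_num) hW4).trans (by norm_num)
  have hT32 : Nat.card ↥(Tg Q y') ≤ 32 := by
    have hsub : Tg Q y' ≤ h.pre W := fun a ha => ⟨(mem_Tg.mp ha).1, a, ha, rfl⟩
    have := Subgroup.card_le_of_le hsub
    rw [h.card_pre] at this
    omega
  have h5 : finrank F2 (LinearMap.ker (dsp (M y'))) ≤ 5 := by
    have := P'.card_pre_le_double
    rw [h.card_pre, P'.card_ker] at this
    by_contra hgt
    have h6 : 2 ^ 6 ≤ 2 ^ finrank F2 (LinearMap.ker (dsp (M y'))) := Nat.pow_le_pow_right (by norm_num) (by omega)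
    omega
  have hsum := LinearMap.finrank_range_add_finrank_ker (dsp (M y'))
  rw [finrank_V] at hsum
  obtain ⟨k, hk⟩ := P'.even_rank
  have hr : LinearMap.range (dsp (M y')) = LinearMap.ker (dsp (M y')) := by
    refine Submodule.eq_of_le_of_finrank_le ?_ (by omega)
    rintro _ ⟨x, rfl⟩
    exact LinearMap.mem_ker.mpr (dsp_dsp P'.h2 x)
  have hm : v ∈ LinearMap.range (dsp (M y')) := hr ▸ LinearMap.mem_ker.mpr hv
  exact hm

/-- The reversed pair of a split pair is split. -/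
theorem Pt.symm_eps0_std (P : Pt h g y) (h0 : Eps0 t Q y) (hJ : M y = J4) : Eps0 t Q (g⁻¹ * t * g) := by
  classical
  by_contra hn
  set y' := g⁻¹ * t * g with hy'
  have P' : Pt h g⁻¹ y' := P.symm
  have hn' := hn
  simp only [Eps0, not_forall, not_not] at hn
  obtain ⟨q0, hq0, e0'⟩ := hn
  have hpf : ∀ b ∈ Bg t Q g, b ≠ 1 → pf (pdat (M b)) = 1 := by
    intro b hb hb1
    by_cases hby : b = y
    · rw [hby, hJ]; exact pf_J4
    have haT : g⁻¹ * b * g ∈ Tg Q y' := by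
      have := hb; rw [P.Bg_eq] at this; exact mem_cj.mp this
    set a := g⁻¹ * b * g with ha
    obtain ⟨w, hw⟩ := P.symm_ker h0 (P'.T_ker haT)
    obtain ⟨q, hq, rfl⟩ := h.π_surj w
    obtain ⟨hk, hπ⟩ := P'.kk hq
    have hconj : ∃ q' ∈ Q, q' * y' * q'⁻¹ = y' * a := by
      have hc1 : ∀ u x c : G, u * u = 1 → c = u * x → u * c = x := fun u x c hu hc' => by
        rw [hc', ← mul_assoc, hu, one_mul]
      have hc2 : ∀ u x z c : G, u * u = 1 → c = u * x * z → u * c = x * z := fun u x z c hu hc' => by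
        rw [hc', ← mul_assoc, ← mul_assoc, hu, one_mul]
      rcases h.π_eq hk (mem_Tg.mp haT).1 (hπ.trans hw) with e | e
      · exact ⟨q, hq, (hc1 y' _ a P'.yy e).symm⟩
      · refine ⟨q * q0, mul_mem hq hq0, ?_⟩
        rw [show q * q0 * y' * (q * q0)⁻¹ = q * (q0 * y' * q0⁻¹) * q⁻¹ by group, e0',
          show q * (y' * t) * q⁻¹ = q * y' * q⁻¹ * (q * t * q⁻¹) by group, conj_fix_iff.mpr (h.es.comm q hq),
          hc2 y' _ t a P'.yy e]
    obtain ⟨q', -, hq'⟩ := hconj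
    obtain ⟨hb', hbt⟩ := mem_Bg.mp hb
    have htb : g * (y' * a) * g⁻¹ = t * b := by rw [hy', ha]; group
    have Pu : Pt h (g * q' * g⁻¹) (t * b) := by
      refine ⟨?_, Commute.mul_left (Commute.refl t) hbt, fun e => hb1 (mul_eq_left.mp e)⟩
      rw [← htb, ← hq', hy']
      group
    have hu0 : Eps0 t Q (t * b) := fun q _ e => hby (P.wcy_conj hb' (Pu.conj_y.trans (isConj_iff.mpr ⟨q, by
      rw [e, mul_assoc, hbt, ← mul_assoc, h.zz, one_mul]⟩)))
    obtain ⟨σ, hσ⟩ := Pu.rank_four hu0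
    rw [h.M_mul t b rfl hbt, h.M_Q h.es.mem, one_mul] at hσ
    rcases F2_cases (pf (pdat (M b))) with e | e
    · exfalso
      obtain ⟨x, hx0, hx⟩ := pf_zero _ e
      obtain ⟨-, hd⟩ := dsp_alt (P.fix_R4 h0 hJ hb)
      let F : F2 × (Fin 4 → F2) → ↥(LinearMap.ker (dsp (M b))) := fun p =>
        ⟨p.1 • vec 0 x + vec p.2 0, LinearMap.mem_ker.mpr (by
          have hR : InR4 (vec p.2 0) := fun _ => rfl
          rw [map_add, map_smul, hd, show (fun i => xb (vec 0 x) i) = x from rfl, hx,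
            show vec (0 : Fin 4 → F2) 0 = 0 by funext k; rcases k with k | k <;> rfl, smul_zero, zero_add,
            dsp_apply, P.fix_R4 h0 hJ hb _ hR, V_add_self])⟩
      have hF : Function.Injective F := fun p p' e => by
        have e1 : p.1 • vec 0 x + vec p.2 0 = p'.1 • vec 0 x + vec p'.2 0 := congrArg Subtype.val e
        have h1 : p.1 = p'.1 := by
          obtain ⟨i, hi⟩ := Function.ne_iff.mp hx0
          have := congrFun e1 (.inr i)
          simp [vec] at this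
          rcases this with e' | e'
          · exact e'
          · exact absurd e' hi
        refine Prod.ext h1 (funext fun i => ?_)
        have := congrFun e1 (.inl i)
        simpa [vec, h1] using this
      have h1 := Nat.card_le_card_of_injective F hF
      rw [card_ker_four hσ, Nat.card_eq_fintype_card, Fintype.card_prod] at h1
      simp at h1
    · exact e
  -- three independent elements
  have h16 := P.card_B_ge
  have pick : ∀ L : Finset G, L.card ≤ 5 → ∃ b ∈ Bg t Q g, b ∉ L := fun L hL => by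
    by_contra hall
    push Not at hall
    have := Set.ncard_le_ncard (fun b hb => hall b hb : (Bg t Q g : Set G) ⊆ (L : Set G)) (Set.toFinite _)
    rw [Set.ncard_coe_finset, ← Nat.card_coe_set_eq] at this
    simp only [SetLike.coe_sort_coe] at this
    omega
  obtain ⟨a, ha, ha'⟩ := pick {1} (by simp)
  obtain ⟨b, hb, hb'⟩ := pick {1, a} ((Finset.card_insert_le _ _).trans (by simp))
  obtain ⟨c, hc, hc'⟩ := pick {1, a, b, a * b} (by
    have := Finset.card_le_four (a := (1 : G)) (b := a) (c := b) (d := a * b); omega)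
  simp only [Finset.mem_insert, Finset.mem_singleton, not_or] at ha' hb' hc'
  have key : ∀ a b : G, a ∈ Bg t Q g → b ∈ Bg t Q g → b ≠ a → a * b ≠ 1 := fun a b ha hb hne e => hne (by
    calc b = a * a * b := by rw [(P.B_elementary h0 ha ha).1, one_mul]
      _ = a := by rw [mul_assoc, e, mul_one])
  have hm : ∀ a b : G, a ∈ Bg t Q g → b ∈ Bg t Q g → pdat (M (a * b)) = pdat (M a) + pdat (M b) :=
    fun a b ha hb => by
    rw [h.M_mul a b (mem_Bg.mp ha).2 (mem_Bg.mp hb).2, pdat_mul _ _ (P.fix_R4 h0 hJ ha) (P.fix_R4 h0 hJ hb)]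
  have h7 := pf_seven (pdat (M a)) (pdat (M b)) (pdat (M c))
  rw [← hm a b ha hb, ← hm a c ha hc, ← hm b c hb hc, ← hm (a * b) c (mul_mem ha hb) hc, hpf a ha ha',
    hpf b hb hb'.1, hpf c hc hc'.1, hpf _ (mul_mem ha hb) (key a b ha hb hb'.2),
    hpf _ (mul_mem ha hc) (key a c ha hc hc'.2.1), hpf _ (mul_mem hb hc) (key b c hb hc hc'.2.2.1),
    hpf _ (mul_mem (mul_mem ha hb) hc) (key (a * b) c (mul_mem ha hb) hc hc'.2.2.2)] at h7
  exact absurd h7 (by decide)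

theorem Pt.symm_eps0 (P : Pt h g y) (h0 : Eps0 t Q y) : Eps0 t Q (g⁻¹ * t * g) := by
  obtain ⟨σ, hσ⟩ := P.rank_four h0
  exact (P.twist σ).symm_eps0_std h0 hσ

end CfsgLib.ConwayWeak
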