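import Cfsg.Agent.Lib.ConwayWeak.Sum
import Cfsg.Agent.Lib.ConwayIso.Main
import Cfsg.Agent.Lib.ZStar.Main
import Cfsg.Agent.Lib.SmallSimple.RadicalQuotient
import Cfsg.Agent.Lib.Comp.Layer
import Cfsg.Agent.Lib.StemSylow.OEightModel

/-!
The involution of a group with a centraliser of shape `2^{1+8}.Ω+(8,2)` is not weakly closed in the extraspecial
2-core of its centraliser.
-/

set_option autoImplicit false
set_option linter.unusedSectionVars false
set_option maxRecDepth 20000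

namespace CfsgLib.ConwayWeak

open QuadraticMap Module CfsgLargeExtra CfsgLib.ConwayType
open CfsgLib.HallJankoType (mem_cent conj_fix_iff)

variable {G : Type*} [Group G] [Finite G] {t : G} {Q : Subgroup G} {π : G → V} {M : G → O8}

/-- No conjugate commutes. -/
theorem WT.isolated (h : WT t Q π M) : Cfsg.IsIsolated t := by
  intro g hcomm
  by_contra hne
  set y := g * t * g⁻¹ with hy
  have P : Pt h g y := ⟨hy.symm, hcomm.eq.symm, hne⟩
  obtain ⟨p, w, hp, hp0, hw, -, -⟩ := exists_axis P.h2 (h.M_mem y P.comm) P.My_ne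
  obtain ⟨q, hq, rfl⟩ := h.π_surj w
  obtain ⟨hk, hπ⟩ := P.kk hq
  set k := y * (q * y * q⁻¹) with hk'
  have hkk : k * k = 1 := (h.sq k hk).mpr (by rw [hπ, hw]; exact hp)
  have hk1 : k ≠ 1 := fun e => hp0 (by rw [← hw, ← hπ, e, h.π_one])
  have hkt : k ≠ t := fun e => hp0 (by rw [← hw, ← hπ, e, h.π_t])
  set u := q * y * q⁻¹ with hu
  have hqt := h.es.comm q hq
  have hug : q * g * t * (q * g)⁻¹ = u := by rw [hu, hy]; group
  have hut : u * t = t * u := Commute.mul_left (Commute.mul_left hqt P.comm) (Commute.inv_left hqt)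
  have huu : u * u = 1 := conj_sq' q P.yy
  have hyu : y * u = u * y := by
    calc y * u = (y * u)⁻¹ := (inv_eq_of_mul_eq_one_right hkk).symm
      _ = u * y := by rw [mul_inv_rev, inv_eq_of_mul_eq_one_right huu, P.y_inv]
  -- the reversed view from `y`
  have Pu : Pt h (g⁻¹ * (q * g)) (g⁻¹ * u * g) := by
    refine ⟨by rw [← hug]; group, ?_, fun e => hk1 ?_⟩
    · calc g⁻¹ * u * g * t = g⁻¹ * (u * y) * g := by rw [hy]; group
        _ = g⁻¹ * (y * u) * g := by rw [hyu]
        _ = t * (g⁻¹ * u * g) := by rw [hy]; group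
    · have e' : u = y := by
        rw [hy]
        calc u = g * (g⁻¹ * u * g) * g⁻¹ := by group
          _ = g * t * g⁻¹ := by rw [e]
      rw [hk', e', P.yy]
  refine Pu.not_eps0 fun q' _ e => hkt ?_
  -- the product would be a conjugate inside `Q`
  have hconj : IsConj t k := by
    refine (Pu.conj_y.trans ((isConj_iff.mpr ⟨q', e⟩).trans (isConj_iff.mpr ⟨g, ?_⟩)))
    rw [hk', hyu, hy]
    group
  obtain ⟨c, hc⟩ := isConj_iff.mp hconj
  exact hc.symm.trans (h.wc c (hc ▸ hk))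

/-- The two hypotheses of the uniqueness theorem. -/
theorem large_hypothesis (hO : Cfsg.oddCore G = ⊥) (hZ : Subgroup.center G = ⊥) (t : G) (ht : orderOf t = 2)
    (hcon : Cfsg.IsPConstrained 2 (Subgroup.centralizer ({t} : Set G)))
    (hQ : Cfsg.IsExtraspecial 2 (Cfsg.pCore 2 (Subgroup.centralizer ({t} : Set G))))
    (hcard : Nat.card (Cfsg.pCore 2 (Subgroup.centralizer ({t} : Set G))) = 2 ^ 9)
    (e : (Subgroup.centralizer ({t} : Set G)) ⧸ Cfsg.pCore 2 (Subgroup.centralizer ({t} : Set G)) ≃*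
      Cfsg.Omega (ZMod 2) (Cfsg.quadFormPlus 4 (ZMod 2))) :
    Cfsg.generalizedFittingSubgroup (Subgroup.centralizer ({t} : Set G)) =
      Cfsg.pCore 2 (Subgroup.centralizer ({t} : Set G)) ∧
    ∃ g : G, (∃ hq : g * t * g⁻¹ ∈ Subgroup.centralizer ({t} : Set G),
      (⟨g * t * g⁻¹, hq⟩ : Subgroup.centralizer ({t} : Set G)) ∈ Cfsg.pCore 2 (Subgroup.centralizer ({t} : Set G))) ∧
      g * t * g⁻¹ ≠ t := by
  classical
  haveI : Fact (Nat.Prime 2) := ⟨Nat.prime_two⟩
  set C := Subgroup.centralizer ({t} : Set G) with hC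
  set Q0 := Cfsg.pCore 2 ↥C with hQ0
  have hOC : Cfsg.oddCore ↥C = ⊥ := by
    have hodd := CfsgLib.odd_card_oddCore (G := ↥C)
    haveI : IsSimpleGroup ↥(Cfsg.Omega (ZMod 2) (Cfsg.quadFormPlus 4 (ZMod 2))) := by
      haveI := CfsgLib.OmegaSimple.pomega_simple qf (Cfsg.quadFormPlus 4 (ZMod 2)) (fun v => (qf_apply v).symm)
        qf_nondeg (by simp)
      exact ((QuotientGroup.quotientMulEquivOfEq (CfsgLib.StemSylow.OEight.card_omega (ZMod.card 2)).2).trans
        QuotientGroup.quotientBot).symm.isSimpleGroup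
    haveI : IsSimpleGroup (↥C ⧸ Q0) := e.isSimpleGroup
    haveI : ((Cfsg.oddCore ↥C).map (QuotientGroup.mk' Q0)).Normal :=
      Subgroup.Normal.map inferInstance _ (QuotientGroup.mk'_surjective _)
    have hdvd := Subgroup.card_map_dvd (Cfsg.oddCore ↥C) (QuotientGroup.mk' Q0)
    rcases IsSimpleGroup.eq_bot_or_eq_top_of_normal _ this with hb | hT
    · have hle : Cfsg.oddCore ↥C ≤ Q0 := by
        intro x hx
        have : QuotientGroup.mk' Q0 x ∈ (Cfsg.oddCore ↥C).map (QuotientGroup.mk' Q0) := ⟨x, hx, rfl⟩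
        rw [hb, Subgroup.mem_bot, QuotientGroup.mk'_apply, QuotientGroup.eq_one_iff] at this
        exact this
      have h2 := Subgroup.card_dvd_of_le hle
      rw [hcard] at h2
      obtain ⟨k, -, hk⟩ := (Nat.dvd_prime_pow Nat.prime_two).mp h2
      rcases k with _ | k
      · exact Subgroup.eq_bot_of_card_eq _ (hk.trans (pow_zero 2))
      · rw [hk, pow_succ] at hodd
        exact absurd hodd (by simp [parity_simps])
    · rw [hT, Subgroup.card_top, Nat.card_congr e.toEquiv, card_Omega] at hdvd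
      exact absurd ((Nat.dvd_trans (by norm_num : 2 ∣ 174182400) hdvd)) (Nat.not_even_iff_odd.mpr hodd ∘ even_iff_two_dvd.mpr)
  have hle := CfsgLib.RadicalQuotient.centralizer_le hcon hOC
  have hF : Cfsg.generalizedFittingSubgroup ↥C = Q0 := (CfsgLib.Comp.gfit_eq_pCore_iff 2).mpr hle
  refine ⟨hF, ?_⟩
  by_contra hno
  push Not at hno
  have hwc : ∀ g : G, g * t * g⁻¹ ∈ Q0.map (Subgroup.subtype C) → g * t * g⁻¹ = t := by
    intro g hg
    obtain ⟨⟨a, ha⟩, hmem, ea⟩ := hg
    have ha' : g * t * g⁻¹ ∈ C := ea ▸ ha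
    exact hno g ⟨ha', by
      have : (⟨a, ha⟩ : ↥C) = ⟨g * t * g⁻¹, ha'⟩ := Subtype.ext ea
      rwa [← this]⟩
  obtain ⟨π, M, h⟩ := exists_WT t ht Q0 hF hQ hcard e hwc
  have hcen : t ∈ Subgroup.center G := Subgroup.mem_center_iff.mpr fun g => by
    have h1 := CfsgLib.ZStar.commutator_mem ht h.isolated g
    rw [show Cfsg.pPrimeCore 2 G = ⊥ from hO, Subgroup.mem_bot, mul_inv_eq_one, mul_inv_eq_iff_eq_mul] at h1
    exact h1.symm
  rw [hZ, Subgroup.mem_bot] at hcen
  rw [hcen, orderOf_one] at ht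
  omega

end CfsgLib.ConwayWeak
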