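import Cfsg.Agent.Lib.ConwayType.Axis

/-!
Involutions of the hyperbolic space of dimension eight with totally singular displacements: normal forms and a few
elements commuting with them.
-/

set_option autoImplicit false
set_option maxRecDepth 20000
set_option linter.style.haveILetI false
set_option synthInstance.maxSize 4096
set_option synthInstance.maxHeartbeats 400000

namespace CfsgLib.ConwayWeak

open QuadraticMap Module CfsgLib.ConwayType CfsgLib.WittExtension CfsgLib.SpinorNorm

/-- An isometry from a map with a left inverse. -/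
def mkIso (f f' : V → V) (hadd : ∀ u v, f (u + v) = f u + f v) (hl : ∀ v, f' (f v) = v) (hr : ∀ v, f (f' v) = v)
    (hq : ∀ v, qf (f v) = qf v) : O8 :=
  ⟨LinearEquiv.ofLinearMap ((AddMonoidHom.mk' f hadd).toZModLinearMap 2)
    ((AddMonoidHom.mk' f' fun u v => by
      conv_lhs => rw [← hr u, ← hr v, ← hadd, hl]).toZModLinearMap 2)
    (LinearMap.ext hr) (LinearMap.ext hl), hq⟩

/-- A map given by coordinates. -/
def vec (a b : Fin 4 → F2) : V := Sum.elim a b

/-- The `i`-th coordinate of the first half. -/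
abbrev xa (v : V) (i : Fin 4) : F2 := v (.inl i)

/-- The `i`-th coordinate of the second half. -/
abbrev xb (v : V) (i : Fin 4) : F2 := v (.inr i)

/-- Additivity, checked on coordinates. -/
theorem vec_add (a b a' b' : Fin 4 → F2) : vec a b + vec a' b' = vec (a + a') (b + b') := by
  funext i; rcases i with i | i <;> rfl

/-- The involution of rank two. -/
def J2f (v : V) : V := vec ![xa v 0 + xb v 1, xa v 1 + xb v 0, xa v 2, xa v 3] ![xb v 0, xb v 1, xb v 2, xb v 3]

/-- The involution of rank four. -/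
def J4f (v : V) : V :=
  vec ![xa v 0 + xb v 1, xa v 1 + xb v 0, xa v 2 + xb v 3, xa v 3 + xb v 2] ![xb v 0, xb v 1, xb v 2, xb v 3]

/-- A transvection on the range. -/
def Nf (v : V) : V := vec ![xa v 0 + xa v 1, xa v 1, xa v 2, xa v 3] ![xb v 0, xb v 1 + xb v 0, xb v 2, xb v 3]

/-- The exchange on the range. -/
def Swf (v : V) : V := vec ![xa v 1, xa v 0, xa v 2, xa v 3] ![xb v 1, xb v 0, xb v 2, xb v 3]

/-- A transvection on the first factor of the four-space. -/
def U1f (v : V) : V := vec ![xa v 0, xa v 1, xa v 2 + xb v 3, xa v 3 + xb v 2] ![xb v 0, xb v 1, xb v 2, xb v 3]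

/-- The exchange on the first factor. -/
def S1f (v : V) : V := vec ![xa v 0, xa v 1, xb v 3, xb v 2] ![xb v 0, xb v 1, xa v 3, xa v 2]

/-- A transvection on the second factor. -/
def U2f (v : V) : V := vec ![xa v 0, xa v 1, xa v 2 + xa v 3, xa v 3] ![xb v 0, xb v 1, xb v 2, xb v 3 + xb v 2]

/-- The exchange on the second factor. -/
def S2f (v : V) : V := vec ![xa v 0, xa v 1, xa v 3, xa v 2] ![xb v 0, xb v 1, xb v 3, xb v 2]

/-- An element of order five preserving the symplectic form of the range. -/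
def H5f (v : V) : V :=
  vec ![xa v 2, xa v 0 + xa v 2 + xa v 3, xa v 1 + xa v 2, xa v 0]
    ![xb v 1 + xb v 2 + xb v 3, xb v 3, xb v 1, xb v 0 + xb v 3]

section lin

local macro "addcheck" f:ident : tactic =>
  `(tactic| (intro u v; funext i; rcases i with i | i <;> fin_cases i <;>
    simp [$f:ident, vec, xa, xb] <;> try abel))

theorem J2f_add : ∀ u v, J2f (u + v) = J2f u + J2f v := by addcheck J2f
theorem J4f_add : ∀ u v, J4f (u + v) = J4f u + J4f v := by addcheck J4f
theorem Nf_add : ∀ u v, Nf (u + v) = Nf u + Nf v := by addcheck Nf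
theorem Swf_add : ∀ u v, Swf (u + v) = Swf u + Swf v := by addcheck Swf
theorem U1f_add : ∀ u v, U1f (u + v) = U1f u + U1f v := by addcheck U1f
theorem S1f_add : ∀ u v, S1f (u + v) = S1f u + S1f v := by addcheck S1f
theorem U2f_add : ∀ u v, U2f (u + v) = U2f u + U2f v := by addcheck U2f
theorem S2f_add : ∀ u v, S2f (u + v) = S2f u + S2f v := by addcheck S2f
theorem H5f_add : ∀ u v, H5f (u + v) = H5f u + H5f v := by addcheck H5f

end lin

/-- The involution of rank two. -/
def J2 : O8 := mkIso J2f J2f J2f_add (by decide +kernel) (by decide +kernel) (by decide +kernel)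

/-- The involution of rank four. -/
def J4 : O8 := mkIso J4f J4f J4f_add (by decide +kernel) (by decide +kernel) (by decide +kernel)

/-- Six involutions commuting with `J2`. -/
def gens : Fin 6 → O8 :=
  ![mkIso Nf Nf Nf_add (by decide +kernel) (by decide +kernel) (by decide +kernel),
    mkIso Swf Swf Swf_add (by decide +kernel) (by decide +kernel) (by decide +kernel),
    mkIso U1f U1f U1f_add (by decide +kernel) (by decide +kernel) (by decide +kernel),
    mkIso S1f S1f S1f_add (by decide +kernel) (by decide +kernel) (by decide +kernel),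
    mkIso U2f U2f U2f_add (by decide +kernel) (by decide +kernel) (by decide +kernel),
    mkIso S2f S2f S2f_add (by decide +kernel) (by decide +kernel) (by decide +kernel)]

/-- An element of order five commuting with `J4`. -/
def H5 : O8 :=
  mkIso H5f (fun v => H5f (H5f (H5f (H5f v)))) H5f_add (by decide +kernel) (by decide +kernel) (by decide +kernel)

theorem ext_iso {g k : O8} (e : ∀ v, g.1 v = k.1 v) : g = k := Subtype.ext (LinearEquiv.ext e)

theorem gens_facts : ∀ i : Fin 6, ∀ v : V, (gens i).1 ((gens i).1 v) = v ∧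
    qf ((gens i).1 v + v) = 0 ∧ (gens i).1 (J2.1 v) = J2.1 ((gens i).1 v) := by
  decide +kernel

theorem gens_sq (i : Fin 6) : gens i * gens i = 1 := ext_iso fun v => (gens_facts i v).1

theorem gens_comm (i : Fin 6) : gens i * J2 = J2 * gens i := ext_iso fun v => (gens_facts i v).2.2

theorem sq_mem_Om (g : O8) : g * g ∈ Om := (Subgroup.mul_mem_iff_of_index_two index_Om).mpr Iff.rfl

theorem dickson_ker : (dicksonHom qf qf_nondeg closure_refl8).ker = Om := by
  haveI := finite_O8
  refine (Subgroup.eq_of_le_of_card_ge (Abelianization.commutator_subset_ker _) ?_).symm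
  have hsurj : Function.Surjective (dicksonHom qf qf_nondeg closure_refl8) := fun c => by
    rcases Int.units_eq_one_or c with rfl | rfl
    · exact ⟨1, map_one _⟩
    · exact ⟨tr d0 std_q.2.2.2.2.1, by rw [tr, dicksonHom_refl]⟩
  have h1 := (dicksonHom qf qf_nondeg closure_refl8).ker.card_mul_index
  rw [Subgroup.index_ker, MonoidHom.range_eq_top.mpr hsurj, Subgroup.card_top, Nat.card_eq_fintype_card (α := ℤˣ),
    Fintype.card_units_int, card_O8] at h1
  rw [card_Om]
  omega

theorem mem_Om_of_singular {g : O8} (h2 : g * g = 1) (hq : ∀ v, qf (dsp g v) = 0) : g ∈ Om := by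
  rw [← dickson_ker, MonoidHom.mem_ker, dsp_sign, (even_of_singular h2 hq).neg_one_pow]

theorem gens_mem (i : Fin 6) : gens i ∈ Om :=
  mem_Om_of_singular (gens_sq i) fun v => (gens_facts i v).2.1

/-- An element of order three commuting with `J2`. -/
def H3 : O8 := gens 0 * gens 1

/-- A square root of it. -/
def H3' : O8 := H3 * H3

theorem H3'_sq : H3' * H3' = H3 := ext_iso (by decide +kernel)

theorem H3'_mem : H3' ∈ Om := mul_mem (mul_mem (gens_mem 0) (gens_mem 1)) (mul_mem (gens_mem 0) (gens_mem 1))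

theorem H3'_comm : H3' * J2 = J2 * H3' := ext_iso (by decide +kernel)

/-- A square root of the element of order five. -/
def H5' : O8 := H5 * H5 * H5

theorem H5'_sq : H5' * H5' = H5 := ext_iso (by decide +kernel)

theorem H5'_mem : H5' ∈ Om := by
  have e : H5' = H5 * H5 * (H5 * H5) * (H5 * H5 * (H5 * H5)) := ext_iso (by decide +kernel)
  rw [e]; exact sq_mem_Om _

theorem H5'_comm : H5' * J4 = J4 * H5' := ext_iso (by decide +kernel)

/-- Membership in the range of `J2 + 1`. -/
def InR2 (v : V) : Prop := xa v 2 = 0 ∧ xa v 3 = 0 ∧ ∀ i, xb v i = 0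

instance (v : V) : Decidable (InR2 v) := by unfold InR2; infer_instance

/-- Membership in the range of `J4 + 1`. -/
def InR4 (v : V) : Prop := ∀ i, xb v i = 0

instance (v : V) : Decidable (InR4 v) := by unfold InR4; infer_instance

theorem dsp_J2 : ∀ v, dsp J2 v = vec ![xb v 1, xb v 0, 0, 0] ![0, 0, 0, 0] := by
  intro v; rw [dsp_apply]; revert v; decide +kernel

theorem dsp_J4 : ∀ v, dsp J4 v = vec ![xb v 1, xb v 0, xb v 3, xb v 2] ![0, 0, 0, 0] := by
  intro v; rw [dsp_apply]; revert v; decide +kernel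

theorem ker_J2 (v : V) : dsp J2 v = 0 ↔ xb v 0 = 0 ∧ xb v 1 = 0 := by
  rw [dsp_J2]; revert v; decide +kernel

theorem ker_J4 (v : V) : dsp J4 v = 0 ↔ InR4 v := by
  rw [dsp_J4]; revert v; decide +kernel

theorem perp_J2 (φ : V) (h : ∀ v, dsp J2 v = 0 → bf v φ = 0) : InR2 φ := by
  have key : ∀ φ : V, (∀ v : V, xb v 0 = 0 → xb v 1 = 0 → bf v φ = 0) → InR2 φ := by decide +kernel
  exact key φ fun v h0 h1 => h v ((ker_J2 v).mpr ⟨h0, h1⟩)

theorem perp_J4 (φ : V) (h : ∀ v, dsp J4 v = 0 → bf v φ = 0) : InR4 φ := by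
  have key : ∀ φ : V, (∀ v : V, InR4 v → bf v φ = 0) → InR4 φ := by decide +kernel
  exact key φ fun v hv => h v ((ker_J4 v).mpr hv)

theorem R4_iso : ∀ u v : V, InR4 u → InR4 v → qf u = 0 ∧ bf u v = 0 := by decide +kernel

theorem orbit_H3 : ∀ v : V, InR2 v → v ≠ 0 → (∀ w ∈ [e0, e1], w = v ∨ w = H3.1 v ∨ w = H3.1 (H3.1 v)) := by
  decide +kernel

theorem orbit_H5 : ∀ v : V, InR4 v → v ≠ 0 → ∀ w ∈ [e0, e2], ∃ c : Fin 4 → F2,
    w = c 0 • v + c 1 • H5.1 v + c 2 • H5.1 (H5.1 v) + c 3 • H5.1 (H5.1 (H5.1 v)) := by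
  decide +kernel

/-! ### Elements fixing the kernel of `J2 + 1` pointwise -/

theorem fix_perp2 {g : O8} (h : ∀ v, dsp J2 v = 0 → g.1 v = v) : g = 1 ∨ g = J2 := by
  set a : Fin 8 → V := ![e0, e1, e2, vec ![0, 0, 0, 1] ![0, 0, 0, 0], vec 0 ![1, 0, 0, 0], f1,
    vec 0 ![0, 0, 1, 0], vec 0 ![0, 0, 0, 1]]
  have key : ∀ w0 w1 : V, qf w0 = 0 → qf w1 = 0 →
      bf w0 e0 = 1 → bf w0 e1 = 0 → bf w0 e2 = 0 → bf w0 (a 3) = 0 → bf w0 (a 6) = 0 → bf w0 (a 7) = 0 →
      bf w1 e0 = 0 → bf w1 e1 = 1 → bf w1 e2 = 0 → bf w1 (a 3) = 0 → bf w1 (a 6) = 0 → bf w1 (a 7) = 0 →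
      bf w0 w1 = 0 →
      (w0 = a 4 ∧ w1 = a 5) ∨ (w0 = J2.1 (a 4) ∧ w1 = J2.1 (a 5)) := by
    decide +kernel
  have hfix : ∀ i : Fin 8, i ≠ 4 → i ≠ 5 → g.1 (a i) = a i := fun i h4 h5 => h _ ((ker_J2 _).mpr (by
    revert i; decide +kernel))
  have hq : ∀ i : Fin 8, qf (a i) = 0 := by decide +kernel
  have hb : ∀ i : Fin 8, i ≠ 4 → i ≠ 5 → bf (g.1 (a 4)) (a i) = bf (a 4) (a i) ∧
      bf (g.1 (a 5)) (a i) = bf (a 5) (a i) := fun i h4 h5 => by
    constructor <;> conv_lhs => rw [← hfix i h4 h5, bf_map]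
  have hd : ∀ v : V, v = xa v 0 • a 0 + xa v 1 • a 1 + xa v 2 • a 2 + xa v 3 • a 3 + xb v 0 • a 4 + xb v 1 • a 5 +
      xb v 2 • a 6 + xb v 3 • a 7 := by decide +kernel
  rcases key (g.1 (a 4)) (g.1 (a 5)) (by rw [g.2, hq]) (by rw [g.2, hq])
      ((hb 0 (by decide) (by decide)).1.trans (by decide +kernel))
      ((hb 1 (by decide) (by decide)).1.trans (by decide +kernel))
      ((hb 2 (by decide) (by decide)).1.trans (by decide +kernel))
      ((hb 3 (by decide) (by decide)).1.trans (by decide +kernel))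
      ((hb 6 (by decide) (by decide)).1.trans (by decide +kernel))
      ((hb 7 (by decide) (by decide)).1.trans (by decide +kernel))
      ((hb 0 (by decide) (by decide)).2.trans (by decide +kernel))
      ((hb 1 (by decide) (by decide)).2.trans (by decide +kernel))
      ((hb 2 (by decide) (by decide)).2.trans (by decide +kernel))
      ((hb 3 (by decide) (by decide)).2.trans (by decide +kernel))
      ((hb 6 (by decide) (by decide)).2.trans (by decide +kernel))
      ((hb 7 (by decide) (by decide)).2.trans (by decide +kernel))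
      (by rw [bf_map]; decide +kernel) with ⟨h4, h5⟩ | ⟨h4, h5⟩
  · left
    refine ext_iso fun v => ?_
    show g.1 v = v
    conv_lhs => rw [hd v]
    simp only [map_add, map_smul, h4, h5, hfix 0 (by decide) (by decide), hfix 1 (by decide) (by decide),
      hfix 2 (by decide) (by decide), hfix 3 (by decide) (by decide), hfix 6 (by decide) (by decide),
      hfix 7 (by decide) (by decide)]
    exact (hd v).symm
  · right
    refine ext_iso fun v => ?_
    have hJ : ∀ i : Fin 8, i ≠ 4 → i ≠ 5 → J2.1 (a i) = a i := by decide +kernel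
    conv_lhs => rw [hd v]
    conv_rhs => rw [hd v]
    simp only [map_add, map_smul, h4, h5, hfix 0 (by decide) (by decide), hfix 1 (by decide) (by decide),
      hfix 2 (by decide) (by decide), hfix 3 (by decide) (by decide), hfix 6 (by decide) (by decide),
      hfix 7 (by decide) (by decide), hJ 0 (by decide) (by decide), hJ 1 (by decide) (by decide),
      hJ 2 (by decide) (by decide), hJ 3 (by decide) (by decide), hJ 6 (by decide) (by decide),
      hJ 7 (by decide) (by decide)]

/-! ### The invariant subgroups of the maps from the four-space to the range -/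

/-- Maps from the four-space to the range of rank two. -/
abbrev W2 := Fin 4 → F2 × F2

/-- The basis of the four-space. -/
def wb : Fin 4 → V := ![e2, vec ![0, 0, 0, 1] 0, vec 0 ![0, 0, 0, 1], vec 0 ![0, 0, 1, 0]]

/-- The map of the four-space into the range given by a displacement. -/
def dmap (g : O8) : W2 := fun i => (xa (dsp g (wb i)) 0, xa (dsp g (wb i)) 1)

/-- The action of the six involutions. -/
def act : Fin 6 → W2 → W2 :=
  ![fun x i => ((x i).1 + (x i).2, (x i).2), fun x i => ((x i).2, (x i).1),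
    fun x => ![x 0, x 1, x 2 + x 0, x 3 + x 1], fun x => ![x 2, x 3, x 0, x 1],
    fun x => ![x 0, x 1 + x 0, x 2, x 3 + x 2], fun x => ![x 1, x 0, x 3, x 2]]

/-- A fixed element. -/
def eps0 : W2 := ![0, 0, 0, (1, 0)]

/-- A closed family. -/
theorem closed_all (S : W2 → Prop) (h0 : S 0) (hadd : ∀ x y, S x → S y → S (x + y))
    (hact : ∀ i x, S x → S (act i x)) {x : W2} (hx : S x) (hne : x ≠ 0) : ∀ y, S y := by
  have key : ∀ x : W2, x ≠ 0 → x = eps0 ∨ x + act 0 x = eps0 ∨ x + act 2 x = eps0 ∨ x + act 4 x = eps0 ∨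
      (x + act 0 x) + act 2 (x + act 0 x) = eps0 ∨ (x + act 0 x) + act 4 (x + act 0 x) = eps0 ∨
      (x + act 2 x) + act 4 (x + act 2 x) = eps0 ∨
      ((x + act 0 x) + act 2 (x + act 0 x)) + act 4 ((x + act 0 x) + act 2 (x + act 0 x)) = eps0 := by
    decide +kernel
  have hn : ∀ i x, S x → S (x + act i x) := fun i x h => hadd _ _ h (hact i x h)
  have he : S eps0 := by
    rcases key x hne with e | e | e | e | e | e | e | e <;> rw [← e]
    · exact hx
    · exact hn _ _ hx
    · exact hn _ _ hx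
    · exact hn _ _ hx
    · exact hn _ _ (hn _ _ hx)
    · exact hn _ _ (hn _ _ hx)
    · exact hn _ _ (hn _ _ hx)
    · exact hn _ _ (hn _ _ (hn _ _ hx))
  have hb : ∀ i : Fin 4, S (Pi.single i ((1, 0) : F2 × F2)) := by
    intro i
    have h := (show ∀ i : Fin 4, (Pi.single i ((1, 0) : F2 × F2) : W2) =
      ![act 5 (act 3 eps0), act 3 eps0, act 5 eps0, eps0] i by decide +kernel) i
    rw [h]
    rcases (show ∀ i : Fin 4, i = 0 ∨ i = 1 ∨ i = 2 ∨ i = 3 by decide) i with rfl | rfl | rfl | rfl
    · exact hact 5 _ (hact 3 _ he)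
    · exact hact 3 _ he
    · exact hact 5 _ he
    · exact he
  have hs : ∀ (p : F2 × F2) (i : Fin 4), S (Pi.single i p) := by
    intro p i
    have hb' : S (Pi.single i ((0, 1) : F2 × F2)) := by
      rw [show (Pi.single i ((0, 1) : F2 × F2) : W2) = act 1 (Pi.single i (1, 0)) by revert i; decide +kernel]
      exact hact _ _ (hb i)
    rcases (show ∀ p : F2 × F2, p = 0 ∨ p = (1, 0) ∨ p = (0, 1) ∨ p = (1, 0) + (0, 1) by decide) p with
      rfl | rfl | rfl | rfl
    · rw [Pi.single_zero]; exact h0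
    · exact hb i
    · exact hb'
    · rw [Pi.single_add]; exact hadd _ _ (hb i) hb'
  intro y
  rw [← Finset.univ_sum_single y]
  exact Finset.sum_induction _ S hadd h0 fun i _ => hs _ _

end CfsgLib.ConwayWeak
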