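import Cfsg.Agent.Lib.ConwayType.Space
import Mathlib.LinearAlgebra.FiniteDimensional.Lemmas
import Mathlib.LinearAlgebra.Basis.VectorSpace

/-!
The product over an orbit of a group of exponent two acting on an abelian group in three steps.
-/

set_option autoImplicit false

namespace CfsgLib.ConwayWeak

open Module CfsgLib.ConwayType

variable {A : Type*} [CommGroup A] [DecidableEq A]

theorem prod_F2 (f : F2 → A) : ∏ i : F2, f i = f 0 * f 1 := Fin.prod_univ_two f

/-- The product of an orbit of at least eight elements is trivial. -/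
theorem orbit_prod (ρ : V → A →* A) (h0 : ∀ x, ρ 0 x = x) (hadd : ∀ u v x, ρ (u + v) x = ρ u (ρ v x))
    (h3 : ∀ a b c x, (fun w y => y * ρ w y) a ((fun w y => y * ρ w y) b ((fun w y => y * ρ w y) c x)) = 1)
    (z : A) (hcard : 8 ≤ (Finset.univ.image fun v => ρ v z).card) :
    ∏ x ∈ Finset.univ.image (fun v => ρ v z), x = 1 := by
  classical
  let S : Submodule F2 V :=
    { carrier := {v | ρ v z = z}
      zero_mem' := h0 z
      add_mem' := fun {u v} hu hv => by show ρ (u + v) z = z; rw [hadd, hv, hu]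
      smul_mem' := fun r v hv => by
        rcases F2_cases r with rfl | rfl
        · rw [zero_smul]; exact h0 z
        · rw [one_smul]; exact hv }
  obtain ⟨U, hU⟩ := Submodule.exists_isCompl S
  have himg : Finset.univ.image (fun v => ρ v z) = Finset.univ.image (fun u : U => ρ u.1 z) := by
    ext x
    simp only [Finset.mem_image, Finset.mem_univ, true_and]
    refine ⟨?_, fun ⟨u, e⟩ => ⟨u.1, e⟩⟩
    rintro ⟨v, rfl⟩
    obtain ⟨u, hu, s, hs, rfl⟩ := Submodule.mem_sup.mp
      (show v ∈ U ⊔ S by rw [sup_comm, hU.sup_eq_top]; exact Submodule.mem_top)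
    exact ⟨⟨u, hu⟩, by rw [hadd, show ρ s z = z from hs]⟩
  have hinj : Function.Injective (fun u : U => ρ u.1 z) := fun u u' e => by
    have hmem : u.1 + u'.1 ∈ S := by
      show ρ (u.1 + u'.1) z = z
      rw [hadd, show ρ u'.1 z = ρ u.1 z from e.symm, ← hadd, V_add_self, h0]
    have h := hU.disjoint
    rw [Submodule.disjoint_def] at h
    have e' := h _ hmem (add_mem u.2 u'.2)
    exact Subtype.ext (by rw [← add_zero u.1, ← V_add_self u'.1, ← add_assoc, e', zero_add])
  rw [himg, Finset.card_image_of_injective _ hinj, Finset.card_univ] at hcard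
  rw [himg, Finset.prod_image fun a _ b _ e => hinj e]
  have hd : 3 ≤ finrank F2 U := by
    by_contra hlt
    have := Module.card_eq_pow_finrank (K := F2) (V := U)
    rw [ZMod.card] at this
    have h4 : 2 ^ finrank F2 U ≤ 2 ^ 2 := Nat.pow_le_pow_right (by norm_num) (by omega)
    omega
  obtain ⟨m, hm⟩ : ∃ m, finrank F2 U = 3 + m := ⟨_, (Nat.add_sub_of_le hd).symm⟩
  let e : ((F2 × F2 × F2) × (Fin m → F2)) ≃ₗ[F2] U := LinearEquiv.ofFinrankEq _ _ (by
    rw [Module.finrank_prod, Module.finrank_prod, Module.finrank_prod, Module.finrank_self, Module.finrank_fin_fun, hm])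
  rw [← e.toEquiv.prod_comp, Fintype.prod_prod_type_right]
  refine Finset.prod_eq_one fun w _ => ?_
  set a : V := (e ((1, 0, 0), 0)).1
  set b : V := (e ((0, 1, 0), 0)).1
  set c : V := (e ((0, 0, 1), 0)).1
  set x := ρ (e (0, w)).1 z
  have hval : ∀ i j k : F2, ρ (e.toEquiv ((i, j, k), w)).1 z = ρ (i • a) (ρ (j • b) (ρ (k • c) x)) := by
    intro i j k
    rw [← hadd, ← hadd, ← hadd]
    suffices hs : (e ((i, j, k), w)).1 = i • a + j • b + k • c + (e (0, w)).1 by
      show ρ (e ((i, j, k), w)).1 z = _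
      rw [hs]
    have hsplit : (((i, j, k), w) : (F2 × F2 × F2) × (Fin m → F2)) =
        i • ((1, 0, 0), 0) + j • ((0, 1, 0), 0) + k • ((0, 0, 1), 0) + (0, w) := by
      simp [Prod.ext_iff]
    rw [hsplit, map_add, map_add, map_add, map_smul, map_smul, map_smul]
    simp [a, b, c]
  simp only [Fintype.prod_prod_type, prod_F2, hval, one_smul, zero_smul, h0]
  have := h3 a b c x
  simp only [map_mul] at this
  rw [← this]

end CfsgLib.ConwayWeak
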