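import Cfsg.Agent.Lib.ConwayWeak.FourRank
import Cfsg.Agent.Lib.ConwayWeak.Orbit

/-!
An involution weakly closed in the extraspecial 2-core of its centraliser: the product of the conjugates in an
elementary abelian group of order `2 ^ 10`, and the contradiction.
-/

set_option autoImplicit false
set_option linter.unusedSectionVars false
set_option maxRecDepth 20000
set_option maxHeartbeats 800000

namespace CfsgLib.ConwayWeak

open QuadraticMap Module CfsgLargeExtra CfsgLib.ConwayType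
open CfsgLib.HallJankoType (mem_cent conj_fix_iff)

variable {G : Type*} [Group G] [Finite G] {t : G} {Q : Subgroup G} {π : G → V} {M : G → O8}
  {g y : G} {h : WT t Q π M}

/-- The product of the two centralisers. -/
def Pt.prodTB (P : Pt h g y) (h0 : Eps0 t Q y) : Subgroup G where
  carrier := {x | ∃ τ ∈ Tg Q y, ∃ b ∈ Bg t Q g, τ * b = x}
  one_mem' := ⟨1, one_mem _, 1, one_mem _, one_mul 1⟩
  mul_mem' := by
    rintro _ _ ⟨τ, hτ, b, hb, rfl⟩ ⟨τ', hτ', b', hb', rfl⟩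
    refine ⟨τ * τ', mul_mem hτ hτ', b * b', mul_mem hb hb', ?_⟩
    rw [show τ * b * (τ' * b') = τ * (b * τ') * b' by group, ← P.comm_TB h0 hτ' hb]
    group
  inv_mem' := by
    rintro _ ⟨τ, hτ, b, hb, rfl⟩
    exact ⟨τ⁻¹, inv_mem hτ, b⁻¹, inv_mem hb, by rw [P.comm_TB h0 (inv_mem hτ) (inv_mem hb), mul_inv_rev]⟩

theorem Pt.prodTB_elementary (P : Pt h g y) (h0 : Eps0 t Q y) {a b : G} (ha : a ∈ P.prodTB h0)
    (hb : b ∈ P.prodTB h0) : a * a = 1 ∧ a * b = b * a := by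
  obtain ⟨τ, hτ, c, hc, rfl⟩ := ha
  obtain ⟨τ', hτ', c', hc', rfl⟩ := hb
  obtain ⟨s1, s2⟩ := P.T_elementary h0 hτ hτ'
  obtain ⟨r1, r2⟩ := P.B_elementary h0 hc hc'
  have x1 := P.comm_TB h0 hτ hc
  have x2 := P.comm_TB h0 hτ' hc
  have x3 := P.comm_TB h0 hτ hc'
  constructor
  · calc τ * c * (τ * c) = τ * (c * τ) * c := by group
      _ = τ * τ * (c * c) := by rw [← x1]; group
      _ = 1 := by rw [s1, r1, one_mul]
  · exact Commute.mul_left (Commute.mul_right s2 x3) (Commute.mul_right x2.symm r2)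

/-- The extraspecial group normalises the product. -/
theorem Pt.prodTB_conj (P : Pt h g y) (h0 : Eps0 t Q y) {q x : G} (hq : q ∈ Q) (hx : x ∈ P.prodTB h0) :
    q * x * q⁻¹ ∈ P.prodTB h0 := by
  obtain ⟨σ, hσ⟩ := P.rank_four h0
  obtain ⟨τ, hτ, b, hb, rfl⟩ := hx
  have hbt := (mem_Bg.mp hb).2
  have hτQ := (mem_Tg.mp hτ).1
  have hTn : q * τ * q⁻¹ ∈ Tg Q y := P.eps0_comm h0 (mul_mem (mul_mem hq hτQ) (inv_mem hq)) (by
    rw [h.π_mul _ (mul_mem hq hτQ) _ (inv_mem hq), h.π_mul _ hq _ hτQ, h.π_inv hq, add_comm (π q) (π τ), add_assoc,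
      V_add_self, add_zero, P.T_ker hτ])
  have h1 := h.nor_mem hbt (inv_mem hq)
  have hcQ : q * (b * q⁻¹ * b⁻¹) ∈ Q := mul_mem hq h1
  have hcT : q * (b * q⁻¹ * b⁻¹) ∈ Tg Q y := by
    have hP := P.twist σ
    refine hP.eps0_comm h0 hcQ ?_
    show dsp (σ * M y * σ⁻¹) (σ.1 (π (q * (b * q⁻¹ * b⁻¹)))) = 0
    have hJ : σ * M y * σ⁻¹ = J4 := hσ
    obtain ⟨hR, -⟩ := dsp_alt (hP.fix_R4 h0 hJ hb)
    have e : σ.1 (π (q * (b * q⁻¹ * b⁻¹))) = dsp (σ * M b * σ⁻¹) (σ.1 (π q)) := by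
      rw [h.π_mul _ hq _ h1, h.M_act b hbt _ (inv_mem hq), h.π_inv hq, dsp_conj]
      have e' : σ⁻¹.1 (σ.1 (π q)) = π q := σ.1.symm_apply_apply _
      rw [e', dsp_apply, add_comm]
    rw [hJ, ker_J4, e]
    exact hR _
  exact ⟨q * τ * q⁻¹ * (q * (b * q⁻¹ * b⁻¹)), mul_mem hTn hcT, b, hb, by group⟩

/-- The second extraspecial group normalises the product. -/
theorem Pt.prodTB_conj' (P : Pt h g y) (h0 : Eps0 t Q y) {q x : G} (hq : q ∈ CfsgLargeExtra.cj g Q)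
    (hx : x ∈ P.prodTB h0) : q * x * q⁻¹ ∈ P.prodTB h0 := by
  have h0' := P.symm_eps0 h0
  set y' := g⁻¹ * t * g with hy'
  have P' : Pt h g⁻¹ y' := P.symm
  have hy : g⁻¹⁻¹ * t * g⁻¹ = y := by rw [inv_inv]; exact P.eq
  -- conjugation by `g` exchanges the factors
  have hTB : ∀ a, a ∈ Tg Q y' ↔ g * a * g⁻¹ ∈ Bg t Q g := fun a => by
    rw [P.Bg_eq, mem_cj, show g⁻¹ * (g * a * g⁻¹) * g = a by group]
  have hBT : ∀ a, a ∈ Bg t Q g⁻¹ ↔ g * a * g⁻¹ ∈ Tg Q y := fun a => by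
    rw [P'.Bg_eq, mem_cj, hy, inv_inv]
  have hiff : ∀ a, a ∈ P'.prodTB h0' ↔ g * a * g⁻¹ ∈ P.prodTB h0 := fun a => by
    constructor
    · rintro ⟨τ, hτ, b, hb, rfl⟩
      refine ⟨g * b * g⁻¹, (hBT b).mp hb, g * τ * g⁻¹, (hTB τ).mp hτ, ?_⟩
      rw [P.comm_TB h0 ((hBT b).mp hb) ((hTB τ).mp hτ)]
      group
    · rintro ⟨τ, hτ, b, hb, e⟩
      refine ⟨g⁻¹ * b * g, (hTB _).mpr ?_, g⁻¹ * τ * g, (hBT _).mpr ?_, ?_⟩
      · rwa [show g * (g⁻¹ * b * g) * g⁻¹ = b by group]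
      · rwa [show g * (g⁻¹ * τ * g) * g⁻¹ = τ by group]
      · calc g⁻¹ * b * g * (g⁻¹ * τ * g) = g⁻¹ * (b * τ) * g := by group
          _ = g⁻¹ * (g * a * g⁻¹) * g := by rw [← P.comm_TB h0 hτ hb, e]
          _ = a := by group
  have hxa : g⁻¹ * x * g ∈ P'.prodTB h0' := (hiff _).mpr (by rwa [show g * (g⁻¹ * x * g) * g⁻¹ = x by group])
  have := (hiff _).mp (P'.prodTB_conj h0' (mem_cj.mp hq) hxa)
  rwa [show g * (g⁻¹ * q * g * (g⁻¹ * x * g) * (g⁻¹ * q * g)⁻¹) * g⁻¹ = q * x * q⁻¹ by group] at this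

/-- At most sixty-four elements of `Q` centralise a commuting conjugate. -/
theorem Pt.card_T_le_64 (P : Pt h g y) : Nat.card ↥(Tg Q y) ≤ 64 := by
  by_cases h0 : Eps0 t Q y
  · rw [P.card_T_four h0]; norm_num
  · exact P.card_T_le h0

/-- No split pair at all. -/
theorem Pt.not_eps0 (P : Pt h g y) : ¬ Eps0 t Q y := by
  classical
  intro h0
  set A := P.prodTB h0 with hA
  letI : CommGroup ↥A :=
    { (inferInstance : Group ↥A) with mul_comm := fun a b => Subtype.ext (P.prodTB_elementary h0 a.2 b.2).2 }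
  haveI : Fintype ↥A := Fintype.ofFinite _
  have hτA : ∀ τ ∈ Tg Q y, τ ∈ A := fun τ hτ => ⟨τ, hτ, 1, one_mem _, mul_one τ⟩
  have htT : t ∈ Tg Q y := mem_Tg.mpr ⟨h.es.mem, P.comm.symm⟩
  -- conjugation
  let conjHom : ∀ n : G, (∀ x ∈ A, n * x * n⁻¹ ∈ A) → ↥A →* ↥A := fun n hn =>
    MonoidHom.mk' (fun x => ⟨n * x.1 * n⁻¹, hn _ x.2⟩) fun a b => Subtype.ext (by
      show n * (a.1 * b.1) * n⁻¹ = n * a.1 * n⁻¹ * (n * b.1 * n⁻¹)
      group)
  let X : Finset ↥A := Finset.univ.filter fun x => IsConj t x.1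
  -- invariance of the product
  have hinv : ∀ n : G, (hn : ∀ x ∈ A, n * x * n⁻¹ ∈ A) → conjHom n hn (∏ x ∈ X, x) = ∏ x ∈ X, x := by
    intro n hn
    have hinj : Function.Injective (conjHom n hn) := fun a b e =>
      Subtype.ext (mul_left_cancel (mul_right_cancel (congrArg Subtype.val e)))
    rw [map_prod, ← Finset.prod_image (g := conjHom n hn) (f := fun x => x) fun a _ b _ e => hinj e]
    refine Finset.prod_congr (Finset.eq_of_subset_of_card_le ?_ ?_) fun _ _ => rfl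
    · intro x hx
      obtain ⟨a, ha, rfl⟩ := Finset.mem_image.mp hx
      refine Finset.mem_filter.mpr ⟨Finset.mem_univ _, (Finset.mem_filter.mp ha).2.trans ?_⟩
      exact isConj_iff.mpr ⟨n, rfl⟩
    · rw [Finset.card_image_of_injective _ hinj]
  -- the action of `V`
  choose ℓ hℓ hπℓ using h.π_surj
  have hAt : ∀ x ∈ A, x * t = t * x := fun x hx => (P.prodTB_elementary h0 hx (hτA t htT)).2
  have hcen : ∀ (q : G), q ∈ Q → ∀ x ∈ A, ∀ q', q' ∈ Q → π q' = π q → q' * x * q'⁻¹ = q * x * q⁻¹ := by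
    intro q hq x hx q' hq' e
    rcases h.π_eq hq hq' e.symm with rfl | rfl
    · rfl
    · rw [show q * t * x * (q * t)⁻¹ = q * (t * x * t⁻¹) * q⁻¹ by group, conj_fix_iff.mpr (hAt x hx).symm]
  let ρ : V → ↥A →* ↥A := fun v => conjHom (ℓ v) fun x hx => P.prodTB_conj h0 (hℓ v) hx
  have hρ : ∀ v (x : ↥A), (ρ v x).1 = ℓ v * x.1 * (ℓ v)⁻¹ := fun _ _ => rfl
  have hρ0 : ∀ x, ρ 0 x = x := fun x => Subtype.ext (by
    rw [hρ, hcen 1 (one_mem _) _ x.2 _ (hℓ 0) (by rw [hπℓ, h.π_one])]; group)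
  have hρadd : ∀ u v x, ρ (u + v) x = ρ u (ρ v x) := fun u v x => Subtype.ext (by
    rw [hρ, hρ, hρ, hcen _ (mul_mem (hℓ u) (hℓ v)) _ x.2 _ (hℓ _)
      (by rw [hπℓ, h.π_mul _ (hℓ u) _ (hℓ v), hπℓ, hπℓ])]
    group)
  -- three steps
  have hD1 : ∀ (v : V) (x : ↥A), (x * ρ v x).1 ∈ Q := fun v x => by
    show x.1 * (ℓ v * x.1 * (ℓ v)⁻¹) ∈ Q
    have hxx : x.1⁻¹ = x.1 := inv_eq_of_mul_eq_one_right (P.prodTB_elementary h0 x.2 x.2).1
    rw [show x.1 * (ℓ v * x.1 * (ℓ v)⁻¹) = x.1 * ℓ v * x.1⁻¹ * (ℓ v)⁻¹ by rw [hxx]; group]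
    exact mul_mem (h.nor_mem (hAt _ x.2) (hℓ v)) (inv_mem (hℓ v))
  have hD2 : ∀ (v : V) (x : ↥A), x.1 ∈ Q → (x * ρ v x).1 = 1 ∨ (x * ρ v x).1 = t := fun v x hx => by
    show x.1 * (ℓ v * x.1 * (ℓ v)⁻¹) = 1 ∨ _
    have hxx := (P.prodTB_elementary h0 x.2 x.2).1
    rcases h.es.conj_cases (hℓ v) hx with e | e <;> rw [e]
    · exact Or.inl hxx
    · refine Or.inr ?_
      show x.1 * (ℓ v * x.1 * (ℓ v)⁻¹) = t
      rw [e, ← mul_assoc, hxx, one_mul]
  have hD3 : ∀ (v : V) (x : ↥A), x.1 = 1 ∨ x.1 = t → x * ρ v x = 1 := fun v x hx => Subtype.ext (by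
    show x.1 * (ℓ v * x.1 * (ℓ v)⁻¹) = 1
    rcases hx with e | e <;> rw [e]
    · group
    · rw [conj_fix_iff.mpr (h.es.comm _ (hℓ v)), h.zz])
  -- the orbits
  let tA : ↥A := ⟨t, hτA t htT⟩
  let O : ↥A → Finset ↥A := fun z => Finset.univ.image fun v => ρ v z
  have htX : tA ∈ X := Finset.mem_filter.mpr ⟨Finset.mem_univ _, IsConj.refl t⟩
  have hOmem : ∀ z, z ∈ X.erase tA → ∀ x ∈ O z, x ∈ X.erase tA := by
    intro z hz x hx
    obtain ⟨v, -, rfl⟩ := Finset.mem_image.mp hx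
    obtain ⟨hne, hzX⟩ := Finset.mem_erase.mp hz
    refine Finset.mem_erase.mpr ⟨fun e => hne ?_, Finset.mem_filter.mpr ⟨Finset.mem_univ _, ?_⟩⟩
    · have e' : ρ v tA = tA := Subtype.ext (by rw [hρ]; exact conj_fix_iff.mpr (h.es.comm _ (hℓ v)))
      rw [← hρ0 z, ← V_add_self v, hρadd, e, e']
    · exact (Finset.mem_filter.mp hzX).2.trans (isConj_iff.mpr ⟨ℓ v, rfl⟩)
  have hOeq : ∀ z, ∀ x ∈ O z, O x = O z := by
    intro z x hx
    obtain ⟨v, -, rfl⟩ := Finset.mem_image.mp hx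
    ext w
    simp only [O, Finset.mem_image, Finset.mem_univ, true_and]
    constructor
    · rintro ⟨u, rfl⟩; exact ⟨u + v, hρadd u v z⟩
    · rintro ⟨u, rfl⟩; exact ⟨u + v, by rw [← hρadd, add_assoc, V_add_self, add_zero]⟩
  have horbit : ∀ z ∈ X.erase tA, ∏ x ∈ O z, x = 1 := by
    intro z hz
    refine orbit_prod ρ hρ0 hρadd (fun a b c x => hD3 a _ (hD2 b _ (hD1 c x))) z ?_
    obtain ⟨hne, hzX⟩ := Finset.mem_erase.mp hz
    obtain ⟨k, hk⟩ := isConj_iff.mp (Finset.mem_filter.mp hzX).2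
    have Pz : Pt h k z.1 := ⟨hk, hAt _ z.2, fun e => hne (Subtype.ext e)⟩
    have h64 := Pz.card_T_le_64
    by_contra hlt
    let f : ↥Q → ↥A := fun q => ρ (π q.1) z
    have hf : ∀ q : ↥Q, (f q).1 = q.1 * z.1 * q.1⁻¹ := fun q => by
      show (ρ (π q.1) z).1 = _
      rw [hρ, hcen q.1 q.2 _ z.2 _ (hℓ _) (hπℓ _)]
    haveI : Fintype ↥Q := Fintype.ofFinite _
    have hfib : ∀ b ∈ Finset.univ.image f, (Finset.univ.filter fun q => f q = b).card ≤ 64 := by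
      intro b hb
      obtain ⟨q0, -, rfl⟩ := Finset.mem_image.mp hb
      haveI : Fintype ↥(Tg Q z.1) := Fintype.ofFinite _
      refine le_trans ?_ (le_trans (le_of_eq (Nat.card_eq_fintype_card.symm)) h64)
      rw [← Finset.card_univ]
      refine Finset.card_le_card_of_injOn (fun q : ↥Q => if hq : f q = f q0 then
        (⟨q0.1⁻¹ * q.1, mem_Tg.mpr ⟨mul_mem (inv_mem q0.2) q.2, ?_⟩⟩ : ↥(Tg Q z.1)) else 1)
        (fun _ _ => Finset.mem_univ _) ?_
      · have e := congrArg Subtype.val hq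
        rw [hf, hf] at e
        refine conj_fix_iff.mp ?_
        rw [show q0.1⁻¹ * q.1 * z.1 * (q0.1⁻¹ * q.1)⁻¹ = q0.1⁻¹ * (q.1 * z.1 * q.1⁻¹) * q0.1 by group, e]
        group
      · intro q hq q' hq' e
        rw [Finset.mem_coe, Finset.mem_filter] at hq hq'
        simp only [dif_pos hq.2, dif_pos hq'.2, Subtype.mk.injEq] at e
        exact Subtype.ext (mul_left_cancel e)
    have hle := Finset.card_le_mul_card_image (Finset.univ : Finset ↥Q) 64 hfib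
    rw [Finset.card_univ, ← Nat.card_eq_fintype_card, h.card] at hle
    have himg : (Finset.univ.image f).card ≤ (Finset.univ.image fun v => ρ v z).card :=
      Finset.card_le_card fun x hx => by
        obtain ⟨q, -, rfl⟩ := Finset.mem_image.mp hx
        exact Finset.mem_image.mpr ⟨π q.1, Finset.mem_univ _, rfl⟩
    omega
  have hP : ∏ x ∈ X, x = tA := by
    rw [← Finset.mul_prod_erase X (fun x => x) htX, ← Finset.prod_fiberwise_of_maps_to
      (t := (X.erase tA).image O) (g := O) fun x hx => Finset.mem_image_of_mem _ hx]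
    conv_rhs => rw [← mul_one tA]
    refine congrArg (tA * ·) (Finset.prod_eq_one fun o ho => ?_)
    obtain ⟨z, hz, rfl⟩ := Finset.mem_image.mp ho
    have hfib : (X.erase tA).filter (fun x => O x = O z) = O z := by
      ext x
      rw [Finset.mem_filter]
      refine ⟨fun ⟨_, e⟩ => e ▸ Finset.mem_image.mpr ⟨0, Finset.mem_univ _, hρ0 x⟩,
        fun hx => ⟨hOmem z hz x hx, hOeq z x hx⟩⟩
    rw [hfib]
    exact horbit z hz
  have hQy : ∀ n ∈ CfsgLargeExtra.cj g Q, n * t = t * n := fun n hn => by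
    have e := congrArg Subtype.val (hinv n fun x hx => P.prodTB_conj' h0 hn hx)
    rw [hP] at e
    exact conj_fix_iff.mp e
  have hBQ : Bg t Q g = CfsgLargeExtra.cj g Q := le_antisymm inf_le_left fun n hn => mem_Bg.mpr ⟨hn, hQy n hn⟩
  have h1 := P.card_B
  rw [hBQ, P.symm.card_T_four (P.symm_eps0 h0)] at h1
  have h2 : Nat.card ↥(CfsgLargeExtra.cj g Q) = Nat.card ↥Q :=
    Subgroup.card_map_of_injective (f := (MulAut.conj g).toMonoidHom) (MulAut.conj g).injective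
  rw [h2, h.card] at h1
  norm_num at h1

end CfsgLib.ConwayWeak
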