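import Cfsg.Agent.Lib.ConwayWeak.Basic

/-!
An involution weakly closed in the extraspecial 2-core of its centraliser: no split pair of rank two.
-/

set_option autoImplicit false
set_option linter.unusedSectionVars false
set_option maxRecDepth 20000
set_option synthInstance.maxSize 4096
set_option synthInstance.maxHeartbeats 400000

namespace CfsgLib.ConwayWeak

open QuadraticMap Module CfsgLargeExtra CfsgLib.ConwayType
open CfsgLib.HallJankoType (mem_cent conj_fix_iff)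

/-- The extension of a map of the four-space into the range. -/
def dext (D : W2) (x : V) : V :=
  xa x 2 • ((D 0).1 • e0 + (D 0).2 • e1) + xa x 3 • ((D 1).1 • e0 + (D 1).2 • e1) +
    xb x 3 • ((D 2).1 • e0 + (D 2).2 • e1) + xb x 2 • ((D 3).1 • e0 + (D 3).2 • e1)

theorem dext_act : ∀ (j : Fin 6) (D : W2) (i : Fin 4),
    (xa ((gens j).1 (dext D ((gens j).1 (wb i)))) 0, xa ((gens j).1 (dext D ((gens j).1 (wb i)))) 1) = act j D i := by
  decide +kernel

theorem gens_ker : ∀ (j : Fin 6) (i : Fin 4), dsp J2 ((gens j).1 (wb i)) = 0 ∧ dsp J2 (wb i) = 0 := by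
  intro j i
  rw [ker_J2, ker_J2]
  revert j i
  decide +kernel

theorem InR2_eq : ∀ x : V, InR2 x → x = xa x 0 • e0 + xa x 1 • e1 := by decide +kernel

theorem ker_split : ∀ x : V, xb x 0 = 0 → xb x 1 = 0 →
    x = xa x 2 • wb 0 + xa x 3 • wb 1 + xb x 3 • wb 2 + xb x 2 • wb 3 + (xa x 0 • e0 + xa x 1 • e1) := by
  decide +kernel

theorem dsp_J2_R (w : V) : InR2 (dsp J2 w) := by
  rw [dsp_J2]; revert w; decide +kernel

theorem R2_ker : dsp J2 e0 = 0 ∧ dsp J2 e1 = 0 ∧ e0 ≠ e1 ∧ e0 ≠ 0 ∧ e1 ≠ 0 := by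
  refine ⟨(ker_J2 e0).mpr ?_, (ker_J2 e1).mpr ?_, ?_⟩ <;> decide +kernel

theorem dsp_mul (g g' : O8) (x : V) : dsp (g * g') x = g.1 (dsp g' x) + dsp g x := by
  rw [dsp_apply, dsp_apply, dsp_apply, map_add]
  show g.1 (g'.1 x) + x = _
  rw [show g.1 (g'.1 x) + g.1 x + (g.1 x + x) = g.1 (g'.1 x) + x + (g.1 x + g.1 x) by abel, V_add_self, add_zero]

variable {G : Type*} [Group G] [Finite G] {t : G} {Q : Subgroup G} {π : G → V} {M : G → O8}
  {g y : G} {h : WT t Q π M}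

theorem Pt.no_two_std (P : Pt h g y) (h0 : Eps0 t Q y) (hJ : M y = J2) : False := by
  classical
  have hTQ : ∀ v : V, dsp J2 v = 0 → ∃ q ∈ Tg Q y, π q = v := fun v hv => by
    obtain ⟨q, hq, rfl⟩ := h.π_surj v
    exact ⟨q, P.eps0_comm h0 hq (by rw [hJ]; exact hv), rfl⟩
  have hER : ∀ e ∈ Q, e ∈ CfsgLargeExtra.cj g Q → InR2 (π e) := fun e he he' => by
    obtain ⟨w, hw⟩ := P.E_range h0 he he'
    rw [← hw, hJ]; exact dsp_J2_R w
  have hyM : ∀ b ∈ Bg t Q g, M (y * b) = J2 * M b := fun b hb => by rw [h.M_mul y b P.comm (mem_Bg.mp hb).2, hJ]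
  have hJ2 : J2 * J2 = 1 := hJ ▸ P.h2
  by_cases hall : ∀ b ∈ Bg t Q g, ∀ v, dsp J2 v = 0 → (M b).1 v = v
  · -- too few elements
    let nz : ↥(Bg t Q g) → G := fun b => if M b.1 = 1 then b.1 else y * b.1
    have hE : ∀ b : ↥(Bg t Q g), nz b ∈ Q ∧ nz b ∈ CfsgLargeExtra.cj g Q := fun b => by
      obtain ⟨hb1, hb2⟩ := mem_Bg.mp b.2
      show (if M b.1 = 1 then b.1 else y * b.1) ∈ Q ∧ _
      by_cases e : M b.1 = 1
      · rw [if_pos e]
        exact ⟨(h.M_ker _ hb2).mp e, by show (if M b.1 = 1 then b.1 else y * b.1) ∈ _; rw [if_pos e]; exact hb1⟩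
      · rw [if_neg e]
        refine ⟨(h.M_ker _ (Commute.mul_left P.comm hb2)).mp ?_, ?_⟩
        · rw [hyM _ b.2, (fix_perp2 (hall _ b.2)).resolve_left e, hJ2]
        · show (if M b.1 = 1 then b.1 else y * b.1) ∈ _
          rw [if_neg e]; exact mul_mem P.es'.mem hb1
    let f : ↥(Bg t Q g) → Bool × F2 × F2 := fun b =>
      (decide (M b.1 = 1), xa (π (nz b)) 0, xa (π (nz b)) 1)
    have hinj : Function.Injective f := fun b b' e => by
      simp only [f, Prod.mk.injEq, decide_eq_decide] at e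
      obtain ⟨e1', e2', e3'⟩ := e
      have hπ : π (nz b) = π (nz b') := by
        rw [InR2_eq _ (hER _ (hE b).1 (hE b).2), InR2_eq _ (hER _ (hE b').1 (hE b').2), e2', e3']
      have hn : nz b' = nz b := by
        have h1 := (P.mem_E (mul_mem (inv_mem (hE b).1) (hE b').1) (mul_mem (inv_mem (hE b).2) (hE b').2)).2.2.2
          (by rw [h.π_mul _ (inv_mem (hE b).1) _ (hE b').1, h.π_inv (hE b).1, hπ, V_add_self])
        exact (inv_mul_eq_one.mp h1).symm
      refine Subtype.ext ?_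
      by_cases eM : M b.1 = 1
      · simp only [nz, if_pos eM, if_pos (e1'.mp eM)] at hn; exact hn.symm
      · simp only [nz, if_neg eM, if_neg fun e => eM (e1'.mpr e)] at hn; exact (mul_left_cancel hn).symm
    have h8 : Nat.card ↥(Bg t Q g) ≤ 8 := (Nat.card_le_card_of_injective f hinj).trans (by
      simp [Nat.card_eq_fintype_card])
    have := P.card_B_ge
    omega
  push Not at hall
  obtain ⟨b, hb, v, hv, hbv⟩ := hall
  -- a nontrivial element of the intersection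
  obtain ⟨q, hq, rfl⟩ := hTQ v hv
  obtain ⟨heQ, heQ'⟩ := P.comm_E hq hb
  set e := q * b * q⁻¹ * b⁻¹ with he
  have hqQ := (mem_Tg.mp hq).1
  have hbt := (mem_Bg.mp hb).2
  have hπe : π e = π q + (M b).1 (π q) := by
    rw [he, show q * b * q⁻¹ * b⁻¹ = q * (b * q⁻¹ * b⁻¹) by group,
      h.π_mul _ hqQ _ (h.nor_mem hbt (inv_mem hqQ)), h.M_act b hbt _ (inv_mem hqQ), h.π_inv hqQ]
  have hπe0 : π e ≠ 0 := fun e' => hbv (by
    rw [hπe] at e'
    rw [← zero_add ((M b).1 (π q)), ← V_add_self (π q), add_assoc, e', add_zero])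
  -- the intersection covers the range
  obtain ⟨c, hct, hcy, hcM⟩ := P.lift_sq h0 H3'_mem (hJ.symm ▸ H3'_comm)
  rw [H3'_sq] at hcM
  have hEc : ∀ a, a ∈ Q → a ∈ CfsgLargeExtra.cj g Q →
      c * a * c⁻¹ ∈ Q ∧ c * a * c⁻¹ ∈ CfsgLargeExtra.cj g Q ∧ π (c * a * c⁻¹) = H3.1 (π a) := fun a ha ha' =>
    ⟨h.nor_mem hct ha, P.nor' hcy ha', by rw [h.M_act c hct a ha, hcM]⟩
  have horb : ∀ w ∈ [e0, e1], ∃ a ∈ Q, a ∈ CfsgLargeExtra.cj g Q ∧ π a = w := by
    intro w hw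
    obtain ⟨a1, a2, a3⟩ := hEc e heQ heQ'
    obtain ⟨c1, c2, c3⟩ := hEc _ a1 a2
    rcases orbit_H3 _ (hER e heQ heQ') hπe0 w hw with e' | e' | e'
    · exact ⟨e, heQ, heQ', e'.symm⟩
    · exact ⟨_, a1, a2, a3.trans e'.symm⟩
    · exact ⟨_, c1, c2, by rw [c3, a3, e']⟩
  obtain ⟨a0, ha0, ha0', hπ0⟩ := horb e0 (by simp)
  obtain ⟨a1, ha1, ha1', hπ1⟩ := horb e1 (by simp)
  have ha01 : a0 ≠ 1 := fun e' => R2_ker.2.2.2.1 (by rw [← hπ0, e', h.π_one])
  have ha11 : a1 ≠ 1 := fun e' => R2_ker.2.2.2.2 (by rw [← hπ1, e', h.π_one])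
  -- the reversed pair is split, so `y t` is not conjugate to `t`
  have h0' : Eps0 t Q (g⁻¹ * t * g) := by
    by_contra hn
    have hm : ∀ a ∈ Q, a ∈ CfsgLargeExtra.cj g Q → g⁻¹ * a * g ∈ Q ∧ g⁻¹ * a * g ∈ CfsgLargeExtra.cj g⁻¹ Q :=
      fun a ha ha' => ⟨mem_cj.mp ha', by rw [mem_cj, inv_inv, show g * (g⁻¹ * a * g) * g⁻¹ = a by group]; exact ha⟩
    have h1 : ∀ a : G, a ≠ 1 → g⁻¹ * a * g ≠ 1 := fun a ha e' => ha (by
      calc a = g * (g⁻¹ * a * g) * g⁻¹ := by group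
        _ = 1 := by rw [e']; group)
    have := P.symm.E_small hn (hm a0 ha0 ha0').1 (hm a0 ha0 ha0').2 (hm a1 ha1 ha1').1 (hm a1 ha1 ha1').2
      (h1 a0 ha01) (h1 a1 ha11)
    exact R2_ker.2.2.1 (by rw [← hπ0, ← hπ1, mul_left_cancel (mul_right_cancel this)])
  have hnc := P.no_conj_prod h0' ha0 ha0' ha01
  -- the displacements on the four-space
  have hfixR : ∀ b ∈ Bg t Q g, ∀ x, InR2 x → (M b).1 x = x := by
    intro b hb x hx
    have hfix : ∀ a, a ∈ Q → a ∈ CfsgLargeExtra.cj g Q → (M b).1 (π a) = π a := fun a ha ha' => by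
      rw [← h.M_act b (mem_Bg.mp hb).2 a ha, conj_fix_iff.mpr (P.E_comm_B ha ha' hb)]
    rw [InR2_eq x hx, map_add, map_smul, map_smul, ← hπ0, ← hπ1, hfix a0 ha0 ha0', hfix a1 ha1 ha1']
  have hdspR : ∀ b ∈ Bg t Q g, ∀ x, dsp J2 x = 0 → InR2 (dsp (M b) x) := by
    intro b hb x hx
    obtain ⟨q, hq, rfl⟩ := hTQ x hx
    obtain ⟨h1, h2⟩ := P.comm_E hq hb
    have hqQ := (mem_Tg.mp hq).1
    have hbt := (mem_Bg.mp hb).2
    have := hER _ h1 h2
    rwa [show q * b * q⁻¹ * b⁻¹ = q * (b * q⁻¹ * b⁻¹) by group, h.π_mul _ hqQ _ (h.nor_mem hbt (inv_mem hqQ)),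
      h.M_act b hbt _ (inv_mem hqQ), h.π_inv hqQ, add_comm, ← dsp_apply] at this
  have hlin : ∀ b ∈ Bg t Q g, ∀ x, dsp J2 x = 0 → dsp (M b) x = dext (dmap (M b)) x := by
    intro b hb x hx
    have hw : ∀ i, dsp (M b) (wb i) = (dmap (M b) i).1 • e0 + (dmap (M b) i).2 • e1 := fun i =>
      InR2_eq _ (hdspR b hb _ (gens_ker 0 i).2)
    have hR0 : ∀ i : F2 × F2, dsp (M b) (i.1 • e0 + i.2 • e1) = 0 := fun i => by
      rw [dsp_apply, hfixR b hb _ ((show ∀ i : F2 × F2, InR2 (i.1 • e0 + i.2 • e1) by decide +kernel) i),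
        V_add_self]
    conv_lhs => rw [ker_split x ((ker_J2 x).mp hx).1 ((ker_J2 x).mp hx).2]
    rw [map_add, hR0 (xa x 0, xa x 1), add_zero]
    simp only [map_add, map_smul, hw]
    rfl
  let S : W2 → Prop := fun D => ∃ b ∈ Bg t Q g, dmap (M b) = D
  have h00 : S 0 := ⟨1, one_mem _, by
    rw [h.M_one]; funext i
    show (xa (dsp 1 (wb i)) 0, xa (dsp 1 (wb i)) 1) = 0
    have : dsp (1 : O8) (wb i) = 0 := by rw [dsp_apply]; exact V_add_self _
    rw [this]; rfl⟩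
  have hmul : ∀ b ∈ Bg t Q g, ∀ b' ∈ Bg t Q g, dmap (M (b * b')) = dmap (M b) + dmap (M b') := by
    intro b hb b' hb'
    funext i
    have e' : dsp (M (b * b')) (wb i) = dsp (M b') (wb i) + dsp (M b) (wb i) := by
      rw [h.M_mul _ _ (mem_Bg.mp hb).2 (mem_Bg.mp hb').2, dsp_mul, hfixR b hb _ (hdspR b' hb' _ (gens_ker 0 i).2)]
    show (xa (dsp (M (b * b')) (wb i)) 0, xa (dsp (M (b * b')) (wb i)) 1) = _
    rw [e']
    exact Prod.ext (add_comm _ _) (add_comm _ _)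
  have hadd : ∀ x z, S x → S z → S (x + z) := by
    rintro _ _ ⟨b, hb, rfl⟩ ⟨b', hb', rfl⟩
    exact ⟨b * b', mul_mem hb hb', hmul b hb b' hb'⟩
  have hact : ∀ j x, S x → S (act j x) := by
    rintro j _ ⟨b, hb, rfl⟩
    obtain ⟨d, hdt, hdy, hdM⟩ := P.lift_fix h0 hnc (gens_mem j) (hJ.symm ▸ gens_comm j)
    refine ⟨d * b * d⁻¹, mem_Bg.mpr ⟨P.nor' hdy (mem_Bg.mp hb).1,
      Commute.mul_left (Commute.mul_left hdt (mem_Bg.mp hb).2) (Commute.inv_left hdt)⟩, ?_⟩
    funext i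
    have e' : dsp (M (d * b * d⁻¹)) (wb i) = (gens j).1 (dext (dmap (M b)) ((gens j).1 (wb i))) := by
      rw [h.M_conj hdt (mem_Bg.mp hb).2, hdM, dsp_conj, inv_eq_of_mul_eq_one_right (gens_sq j),
        hlin b hb _ (gens_ker j i).1]
    show (xa (dsp (M (d * b * d⁻¹)) (wb i)) 0, xa (dsp (M (d * b * d⁻¹)) (wb i)) 1) = _
    rw [e']
    exact dext_act j _ i
  have hne : dmap (M b) ≠ 0 := fun e' => hbv (by
    have h1 := hlin b hb _ hv
    rw [e'] at h1
    have : dext 0 (π q) = 0 := by simp [dext]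
    rw [map_eq_add_dsp, h1, this, add_zero])
  choose bf' hbf' hbfD using closed_all S h00 hadd hact ⟨b, hb, rfl⟩ hne
  let z : Bool × Bool → G := fun p => (bif p.1 then y else 1) * (bif p.2 then a0 else 1)
  have hz : ∀ p, z p ∈ Bg t Q g ∧ dmap (M (z p)) = 0 := by
    have hd1 : dmap (M 1) = 0 := by
      rw [h.M_one]; funext i
      show (xa (dsp 1 (wb i)) 0, xa (dsp 1 (wb i)) 1) = 0
      have : dsp (1 : O8) (wb i) = 0 := by rw [dsp_apply]; exact V_add_self _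
      rw [this]; rfl
    have hdy : dmap (M y) = 0 := by
      funext i
      show (xa (dsp (M y) (wb i)) 0, xa (dsp (M y) (wb i)) 1) = 0
      rw [hJ, (gens_ker 0 i).2]; rfl
    have hda : dmap (M a0) = 0 := by rw [h.M_Q ha0, ← h.M_one]; exact hd1
    have haB := (P.mem_E ha0 ha0').2.1
    rintro ⟨_ | _, _ | _⟩ <;> simp only [z, cond_true, cond_false]
    · exact ⟨by simp, by rw [mul_one]; exact hd1⟩
    · exact ⟨by simpa using haB, by rw [one_mul]; exact hda⟩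
    · exact ⟨by simpa using P.y_B, by rw [mul_one]; exact hdy⟩
    · exact ⟨mul_mem P.y_B haB, by rw [hmul y P.y_B a0 haB, hdy, hda, add_zero]⟩
  have hzinj : Function.Injective z := by
    have hy1 : y ≠ 1 := fun e' => P.not_mem (e' ▸ one_mem Q)
    have hya : y ≠ a0 := fun e' => P.not_mem (e' ▸ ha0)
    have hya1 : y * a0 ≠ 1 := fun e' => hya (by
      rw [← P.y_inv]; exact inv_eq_of_mul_eq_one_right e')
    rintro ⟨_ | _, _ | _⟩ ⟨_ | _, _ | _⟩ e' <;> simp only [z, cond_true, cond_false, mul_one, one_mul] at e'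
    all_goals first
      | rfl
      | exact absurd e' hy1
      | exact absurd e'.symm hy1
      | exact absurd e' ha01
      | exact absurd e'.symm ha01
      | exact absurd e' hya
      | exact absurd e'.symm hya
      | exact absurd e' hya1
      | exact absurd e'.symm hya1
      | exact absurd (mul_eq_left.mp e') ha01
      | exact absurd (mul_eq_left.mp e'.symm) ha01
      | exact absurd (mul_eq_right.mp e') hy1
      | exact absurd (mul_eq_right.mp e'.symm) hy1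
  let F : W2 × (Bool × Bool) → ↥(Bg t Q g) := fun p => ⟨bf' p.1 * z p.2, mul_mem (hbf' p.1) (hz p.2).1⟩
  have hF : Function.Injective F := fun p p' e' => by
    have e1' : bf' p.1 * z p.2 = bf' p'.1 * z p'.2 := congrArg Subtype.val e'
    have hD : ∀ p : W2 × (Bool × Bool), dmap (M (bf' p.1 * z p.2)) = p.1 := fun p => by
      rw [hmul _ (hbf' p.1) _ (hz p.2).1, hbfD, (hz p.2).2, add_zero]
    have h1 : p.1 = p'.1 := by rw [← hD p, ← hD p', e1']
    rw [← h1] at e1'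
    exact Prod.ext h1 (hzinj (mul_left_cancel e1'))
  have h1 := Nat.card_le_card_of_injective F hF
  have h2 : Nat.card ↥(Bg t Q g) ≤ Nat.card ↥(CfsgLargeExtra.cj g Q) := Subgroup.card_le_of_le inf_le_left
  have h3 : Nat.card ↥(CfsgLargeExtra.cj g Q) = 512 := by
    show Nat.card ↥(Q.map (MulAut.conj g).toMonoidHom) = 512
    rw [Subgroup.card_map_of_injective (f := (MulAut.conj g).toMonoidHom) (MulAut.conj g).injective, h.card]
  rw [Nat.card_eq_fintype_card (α := W2 × Bool × Bool), show Fintype.card (W2 × Bool × Bool) = 1024 by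
    simp [Fintype.card_prod, Fintype.card_fun]] at h1
  omega

/-- No split pair has rank two. -/
theorem Pt.no_two (P : Pt h g y) (h0 : Eps0 t Q y) (σ : O8) : σ * M y * σ⁻¹ ≠ J2 :=
  fun e => (P.twist σ).no_two_std h0 e

/-- A split pair has the shape of rank four. -/
theorem Pt.rank_four (P : Pt h g y) (h0 : Eps0 t Q y) : ∃ σ : O8, σ * M y * σ⁻¹ = J4 := by
  obtain ⟨σ, e | e⟩ := P.exists_std h0
  · exact absurd e (P.no_two h0 σ)
  · exact ⟨σ, e⟩

end CfsgLib.ConwayWeak
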